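import Groth.Agent.H16Derived.TorExcess.Stalk
import Mathlib

/-!
# Koszul charts at a point of the intersection, and the classes of tuples of excess elements
-/

set_option autoImplicit false
set_option linter.style.haveILetI false
set_option linter.unusedSectionVars false
set_option maxHeartbeats 1000000
set_option synthInstance.maxHeartbeats 400000
set_option backward.isDefEq.respectTransparency false

universe u

open CategoryTheory CategoryTheory.Limits AlgebraicGeometry Opposite TopologicalSpace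
open exteriorPower (ιMulti)
open Groth.Agent.H17.FLI (O' idI)
open Groth.Agent.H16Derived.TorSelf (Res Reso deg LocReg)

noncomputable section

namespace Groth.Agent.H16Derived.TorExcess

attribute [local instance] Groth.Agent.H06Mod.stalkAlgebra

/-- In the local rings the ideal is the image of a form with exact Koszul complex. -/
def LocKosz {X Y : Scheme.{u}} (i : Y ⟶ X) : Prop :=
  ∀ (y : Y) (x : X), i.base y = x →
    ∃ (c : ℕ) (g : (Fin c → X.presheaf.stalk x) →ₗ[X.presheaf.stalk x] X.presheaf.stalk x), Resolves g (Is i.ker x)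

theorem locKosz_of_locReg {X Y : Scheme.{u}} {i : Y ⟶ X} [IsClosedImmersion i] (hi : LocReg i) : LocKosz i := by
  rintro y _ rfl
  obtain ⟨c, f, hreg, hspan⟩ := hi y
  exact ⟨c, _, resolves_of_exact f hreg (hspan.trans (Is_ker i y).symm)⟩

variable {X Y Z W : Scheme.{u}} {iY : Y ⟶ X} {iZ : Z ⟶ X} [IsClosedImmersion iY] [IsClosedImmersion iZ]
  {jY : W ⟶ Y} {jZ : W ⟶ Z} [IsClosedImmersion jY] [IsClosedImmersion jZ] (S : Sq iY iZ jY jZ) (P : Reso iY) (w : W)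

/-- A Koszul chart at a point of the intersection. -/
structure Chart (S : Sq iY iZ jY jZ) (P : Reso iY) (w : W) where
  a : ℕ
  g : (Fin a → X.presheaf.stalk (pt iZ jZ w)) →ₗ[X.presheaf.stalk (pt iZ jZ w)] X.presheaf.stalk (pt iZ jZ w)
  hg : Resolves g (Is iY.ker (pt iZ jZ w))
  L : (resAt P (pt iZ jZ w)).Lift g (oneAt iY (pt iZ jZ w))
  T : Split (idI iZ (jZ.base w)) (Is (jY ≫ iY).ker (pt iZ jZ w)) g

theorem nonempty_chart (hY : LocKosz iY) (hZ : LocKosz iZ) (hW : LocKosz (jY ≫ iY)) : Nonempty (Chart S P w) := by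
  obtain ⟨a, g, hg⟩ := hY (jY.base w) _ (S.hY w)
  obtain ⟨b, h, hh⟩ := hZ (jZ.base w) (pt iZ jZ w) rfl
  rw [Is_ker] at hh
  obtain ⟨c, k, hk⟩ := hW w _ (S.hW w)
  obtain ⟨L⟩ := Res.exists_lift (resAt P (pt iZ jZ w)) (g := g) (q₀ := oneAt iY (pt iZ jZ w)) fun m =>
    smul_oneAt_of_mem iY (jY.base w) (S.hY w) _ (hg.mem m)
  have hne : Is (jY ≫ iY).ker (pt iZ jZ w) ≠ ⊤ := fun h => one_ne_zero (α := W.presheaf.stalk w)
    ((map_one (S.ρW w)).symm.trans ((S.mem_K_iff w 1).1 (h ▸ Submodule.mem_top)))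
  obtain ⟨T, -⟩ := exists_split hg hh hk (by rw [S.Is_W]; exact congrArg _ (Is_ker iZ (jZ.base w))) hne
  exact ⟨⟨a, g, hg, L, T⟩⟩

/-- The class attached to a tuple of excess elements. -/
def IsXi {p : ℕ} (n : Fin p → S.E.presheaf.stalk w) (t : (tT P iZ p).presheaf.stalk (jZ.base w)) : Prop :=
  ∃ f : Fin p → X.presheaf.stalk (pt iZ jZ w), (∀ j, S.Cls w (f j) (n j)) ∧
    ∃ F : (resAt P (pt iZ jZ w)).Fam (oneAt iY (pt iZ jZ w)) f, TCl P iZ (jZ.base w) p F.top t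

variable {S P w}

theorem Sq.Cls.mem_idI {f : X.presheaf.stalk (pt iZ jZ w)} {n : S.E.presheaf.stalk w} (h : S.Cls w f n) :
    f ∈ idI iZ (jZ.base w) := (Is_ker iZ (jZ.base w)).le h.2.1

theorem Sq.cls_zero_of_mem_mul {f : X.presheaf.stalk (pt iZ jZ w)}
    (hY : f ∈ Is (jY ≫ iY).ker (pt iZ jZ w) * Is iY.ker (pt iZ jZ w))
    (hZ : f ∈ Is (jY ≫ iY).ker (pt iZ jZ w) * Is iZ.ker (pt iZ jZ w)) : S.Cls w f 0 := by
  refine ⟨Ideal.mul_le_right hY, Ideal.mul_le_right hZ, ?_⟩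
  rw [(S.σY_eq_zero_iff w ⟨f, _⟩).2 hY, (S.σZ_eq_zero_iff w ⟨f, _⟩).2 hZ, map_zero, sub_self]

theorem map_mem_mul {A : Type u} [CommRing A] {M : Type u} [AddCommGroup M] [Module A M] (K I : Ideal A)
    (φ : M →ₗ[A] A) (hφ : ∀ m, φ m ∈ I) {v : M} (hv : v ∈ (K • ⊤ : Submodule A M)) : φ v ∈ K * I := by
  rw [← smul_eq_mul]
  exact map_smul_le K φ (fun m _ => hφ m) hv

theorem mem_smul_of_map_mem_mul {A : Type u} [CommRing A] {M : Type u} [AddCommGroup M] [Module A M] {K I : Ideal A}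
    {φ : M →ₗ[A] A} (hφ : Resolves φ I) (hIK : I ≤ K) {v : M} (hv : φ v ∈ K * I) : v ∈ (K • ⊤ : Submodule A M) := by
  have hr : (⊤ : Submodule A M).map φ = I := by
    rw [Submodule.map_top]
    exact le_antisymm (by rintro _ ⟨n, rfl⟩; exact hφ.mem n) fun r hr => hφ.surj r hr
  rw [← smul_eq_mul, ← hr, ← Submodule.map_smul''] at hv
  obtain ⟨u, hu, huv⟩ := hv
  have h := Submodule.smul_mono hIK le_rfl (hφ.mem_smul_of_eq_zero (v := v - u) (by rw [map_sub, huv, sub_self]))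
  exact (Submodule.sub_mem_iff_left _ hu).1 h

namespace Chart

variable (C : Chart S P w)

theorem kExact : Res.KExact C.g (oneAt iY (pt iZ jZ w)) :=
  C.hg.kExact (exists_smul_oneAt iY (jY.base w) (S.hY w)) (mem_Is_of_smul_oneAt iY (jY.base w) (S.hY w))

theorem exists_cl (p : ℕ) (z : ↥(⋀[X.presheaf.stalk (pt iZ jZ w)]^p (Fin C.T.e → X.presheaf.stalk (pt iZ jZ w)))) :
    ∃ t, TCl P iZ (jZ.base w) p (C.T.ψ C.L p z) t :=
  exists_tcl (C.T.ψ_mem_Zb C.L p z)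

/-- The class of a wedge of relations. -/
def cl (p : ℕ) (z : ↥(⋀[X.presheaf.stalk (pt iZ jZ w)]^p (Fin C.T.e → X.presheaf.stalk (pt iZ jZ w)))) :
    (tT P iZ p).presheaf.stalk (jZ.base w) :=
  (C.exists_cl p z).choose

theorem cl_spec (p : ℕ) (z) : TCl P iZ (jZ.base w) p (C.T.ψ C.L p z) (C.cl p z) := (C.exists_cl p z).choose_spec

theorem cl_add (p : ℕ) (z z') : C.cl p (z + z') = C.cl p z + C.cl p z' := by
  refine (C.cl_spec p _).unique ?_
  rw [map_add]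
  exact (C.cl_spec p z).add (C.cl_spec p z')

theorem cl_smul (p : ℕ) (r : X.presheaf.stalk (pt iZ jZ w)) (z) :
    C.cl p (r • z) = (iZ.stalkMap (jZ.base w)).hom r • C.cl p z := by
  refine (C.cl_spec p _).unique ?_
  rw [map_smul]
  exact (C.cl_spec p z).smul r

theorem cl_surjective (p : ℕ) : Function.Surjective (C.cl p) := by
  intro t
  obtain ⟨a, ha, hat⟩ := exists_trep t
  obtain ⟨z, hz⟩ := C.T.exists_ψ C.L C.kExact ha
  exact ⟨z, ((hat.congr (by rw [← neg_sub]; exact neg_mem hz) ⟨_, C.cl_spec p z⟩).unique (C.cl_spec p z)).symm⟩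

theorem cl_eq_zero_iff (p : ℕ) (z) :
    C.cl p z = 0 ↔ z ∈ (Is (jY ≫ iY).ker (pt iZ jZ w) • ⊤ : Submodule (X.presheaf.stalk (pt iZ jZ w))
      ↥(⋀[X.presheaf.stalk (pt iZ jZ w)]^p (Fin C.T.e → X.presheaf.stalk (pt iZ jZ w)))) := by
  rw [(C.cl_spec p z).eq_zero_iff]
  exact C.T.ψ_mem_Bb_iff C.L C.kExact z

theorem exists_vec (s : Fin C.T.e → X.presheaf.stalk (pt iZ jZ w)) : ∃ n, S.Cls w (C.g (C.T.ρ s)) n :=
  S.exists_cls w (C.hg.mem _) ((Is_ker iZ (jZ.base w)).ge (C.T.g_ρ s))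

/-- The excess element of a relation. -/
def vec (s : Fin C.T.e → X.presheaf.stalk (pt iZ jZ w)) : S.E.presheaf.stalk w := (C.exists_vec s).choose

theorem vec_spec (s) : S.Cls w (C.g (C.T.ρ s)) (C.vec s) := (C.exists_vec s).choose_spec

theorem vec_add (s s') : C.vec (s + s') = C.vec s + C.vec s' := by
  refine (C.vec_spec _).unique ?_
  rw [map_add, map_add]
  exact (C.vec_spec s).add (C.vec_spec s')

theorem vec_smul (r : X.presheaf.stalk (pt iZ jZ w)) (s) : C.vec (r • s) = S.ρW w r • C.vec s := by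
  refine (C.vec_spec _).unique ?_
  rw [map_smul, map_smul, smul_eq_mul]
  exact (C.vec_spec s).smul r

theorem vec_eq_of_rel {f : X.presheaf.stalk (pt iZ jZ w)} {n : S.E.presheaf.stalk w} (hf : S.Cls w f n)
    (v : Fin C.a → X.presheaf.stalk (pt iZ jZ w)) (hv : C.g v = f) (u : Fin C.T.b → X.presheaf.stalk (pt iZ jZ w))
    (hu : C.T.h u = -f) : C.vec (C.T.Φ.symm (v, u)).1 = n := by
  let A := X.presheaf.stalk (pt iZ jZ w)
  let st := C.T.Φ.symm (v, u)
  have hk : C.T.k st.2 = 0 := by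
    rw [← C.T.hΦ st, C.T.Φ.apply_symm_apply]
    show C.g v + C.T.h u = 0
    rw [hv, hu, add_neg_cancel]
  have ht := C.T.hk.mem_smul_of_eq_zero hk
  have hd : ((v, u) : (Fin C.a → A) × (Fin C.T.b → A)) - C.T.Φ (st.1, 0) = C.T.Φ (0, st.2) := by
    rw [sub_eq_iff_eq_add, ← map_add, Prod.mk_add_mk, zero_add, add_zero, Prod.mk.eta, C.T.Φ.apply_symm_apply]
  have hmem : C.T.Φ (0, st.2) ∈ (Is (jY ≫ iY).ker (pt iZ jZ w) • ⊤ : Submodule A ((Fin C.a → A) × (Fin C.T.b → A))) :=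
    Res.map_smul_top _ (C.T.Φ.toLinearMap.comp (LinearMap.inr A (Fin C.T.e → A) (Fin C.T.c → A))) ht
  have h1 : C.g (v - C.T.ρ st.1) ∈ Is (jY ≫ iY).ker (pt iZ jZ w) * Is iY.ker (pt iZ jZ w) := by
    rw [show v - C.T.ρ st.1 = (C.T.Φ (0, st.2)).1 by rw [← hd]; rfl]
    exact map_mem_mul _ _ C.g C.hg.mem (Res.map_smul_top _ (LinearMap.fst A _ _) hmem)
  have h2 : C.g (v - C.T.ρ st.1) ∈ Is (jY ≫ iY).ker (pt iZ jZ w) * Is iZ.ker (pt iZ jZ w) := by
    have e : C.g (v - C.T.ρ st.1) = -C.T.h (u - (C.T.Φ (st.1, 0)).2) := by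
      have h0 := C.T.hΦ (st.1, 0)
      simp only [map_zero, Gsum, LinearMap.coprod_apply] at h0
      have hρ : C.T.ρ st.1 = (C.T.Φ (st.1, 0)).1 := rfl
      rw [map_sub, map_sub, hv, hu, hρ]
      linear_combination -h0
    rw [e, show u - (C.T.Φ (st.1, 0)).2 = (C.T.Φ (0, st.2)).2 by rw [← hd]; rfl]
    exact neg_mem (map_mem_mul _ _ C.T.h (fun m => (Is_ker iZ (jZ.base w)).ge (C.T.hh.mem m))
      (Res.map_smul_top _ (LinearMap.snd A _ _) hmem))
  have h3 := (C.vec_spec st.1).add (S.cls_zero_of_mem_mul h1 h2)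
  rw [add_zero, map_sub, hv, add_sub_cancel] at h3
  exact h3.unique hf

theorem exists_rel {f : X.presheaf.stalk (pt iZ jZ w)} {n : S.E.presheaf.stalk w} (hf : S.Cls w f n) :
    ∃ v u, C.g v = f ∧ C.T.h u = -f := by
  obtain ⟨v, hv⟩ := C.hg.surj f hf.1
  obtain ⟨u, hu⟩ := C.T.hh.surj (-f) (neg_mem hf.mem_idI)
  exact ⟨v, u, hv, hu⟩

theorem vec_surjective : Function.Surjective C.vec := by
  intro n
  obtain ⟨f, hf⟩ := S.exists_rep w n
  obtain ⟨v, u, hv, hu⟩ := C.exists_rel hf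
  exact ⟨_, C.vec_eq_of_rel hf v hv u hu⟩

theorem sub_mem_of_vec_eq (s s' : Fin C.T.e → X.presheaf.stalk (pt iZ jZ w)) (h : C.vec s = C.vec s') :
    s - s' ∈ (Is (jY ≫ iY).ker (pt iZ jZ w) • ⊤ :
      Submodule (X.presheaf.stalk (pt iZ jZ w)) (Fin C.T.e → X.presheaf.stalk (pt iZ jZ w))) := by
  let A := X.presheaf.stalk (pt iZ jZ w)
  have h0 : S.Cls w (C.g (C.T.ρ (s - s'))) 0 := by
    have h' := (C.vec_spec s).add (C.vec_spec s').neg
    rw [← h, add_neg_cancel, ← map_neg, ← map_add, ← map_neg, ← map_add, ← sub_eq_add_neg] at h'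
    exact h'
  obtain ⟨hY, hZ⟩ := S.mem_mul_of_cls_zero w h0
  have hIY : Is iY.ker (pt iZ jZ w) ≤ Is (jY ≫ iY).ker (pt iZ jZ w) := by rw [S.Is_W]; exact le_sup_left
  have hIZ : idI iZ (jZ.base w) ≤ Is (jY ≫ iY).ker (pt iZ jZ w) := by
    rw [S.Is_W]; exact (Is_ker iZ (jZ.base w)).ge.trans le_sup_right
  have h1 := mem_smul_of_map_mem_mul C.hg hIY hY
  have hΦ := C.T.hΦ (s - s', 0)
  simp only [map_zero, Gsum, LinearMap.coprod_apply] at hΦ
  have h2 := mem_smul_of_map_mem_mul C.T.hh hIZ (v := (C.T.Φ (s - s', 0)).2) (by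
    rw [show C.T.h (C.T.Φ (s - s', 0)).2 = -C.g (C.T.ρ (s - s')) from eq_neg_of_add_eq_zero_right hΦ]
    exact neg_mem ((Ideal.mul_mono le_rfl (Is_ker iZ (jZ.base w)).le) hZ))
  have hpair : C.T.Φ (s - s', 0) ∈ (Is (jY ≫ iY).ker (pt iZ jZ w) • ⊤ : Submodule A ((Fin C.a → A) × (Fin C.T.b → A))) := by
    have h' := add_mem (Res.map_smul_top _ (LinearMap.inl A (Fin C.a → A) (Fin C.T.b → A)) h1)
      (Res.map_smul_top _ (LinearMap.inr A (Fin C.a → A) (Fin C.T.b → A)) h2)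
    simpa [Split.ρ] using h'
  have h3 := Res.map_smul_top _ ((LinearMap.fst A _ _).comp C.T.Φ.symm.toLinearMap) hpair
  simpa using h3

/-- In a chart the class of a tuple is the class of the wedge. -/
theorem isXi_iff {p : ℕ} {n : Fin p → S.E.presheaf.stalk w} (s : Fin p → Fin C.T.e → X.presheaf.stalk (pt iZ jZ w))
    (hs : ∀ j, C.vec (s j) = n j) (t : (tT P iZ p).presheaf.stalk (jZ.base w)) :
    IsXi S P w n t ↔ t = C.cl p (ιMulti _ p s) := by
  constructor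
  · rintro ⟨f, hf, F, hF⟩
    choose v u hv hu using fun j => C.exists_rel (hf j)
    have h1 := C.T.top_sub_ψ_mem C.L F (fun j => (hf j).mem_idI) v hv u hu
    have h2 : TCl P iZ (jZ.base w) p (C.T.ψ C.L p (ιMulti _ p fun j => (C.T.Φ.symm (v j, u j)).1)) t :=
      hF.congr (by rw [← neg_sub]; exact neg_mem h1) ⟨_, C.cl_spec p _⟩
    rw [h2.unique (C.cl_spec p _)]
    have hsv : ∀ j, (C.T.Φ.symm (v j, u j)).1 - s j ∈ _ := fun j =>
      C.sub_mem_of_vec_eq _ _ ((C.vec_eq_of_rel (hf j) (v j) (hv j) (u j) (hu j)).trans (hs j).symm)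
    rw [← sub_eq_zero]
    have hsub : ∀ x x', C.cl p (x - x') = C.cl p x - C.cl p x' := fun x x' => by
      rw [eq_sub_iff_add_eq, ← C.cl_add, sub_add_cancel]
    rw [← hsub, C.cl_eq_zero_iff, ← Submodule.Quotient.mk_eq_zero, Submodule.Quotient.mk_sub, sub_eq_zero]
    exact Res.congr_of_sub_mem _ (ιMulti _ p) _ s hsv
  · rintro rfl
    obtain ⟨F⟩ := Res.exists_fam (f := fun j => C.g (C.T.ρ (s j))) C.L (fun j => C.T.ρ (s j)) fun _ => rfl
    refine ⟨fun j => C.g (C.T.ρ (s j)), fun j => hs j ▸ C.vec_spec (s j), F, ?_⟩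
    have hu : ∀ j, C.T.h (C.T.Φ (s j, 0)).2 = -C.g (C.T.ρ (s j)) := fun j => by
      have h := C.T.hΦ (s j, 0)
      simp only [map_zero, Gsum, LinearMap.coprod_apply] at h
      exact eq_neg_of_add_eq_zero_right h
    have h1 := C.T.top_sub_ψ_mem C.L F (fun j => C.T.g_ρ (s j)) (fun j => C.T.ρ (s j)) (fun _ => rfl)
      (fun j => (C.T.Φ (s j, 0)).2) hu
    have e : (fun j => (C.T.Φ.symm (C.T.ρ (s j), (C.T.Φ (s j, 0)).2)).1) = s := funext fun j => by
      rw [show ((C.T.ρ (s j), (C.T.Φ (s j, 0)).2) : _ × _) = C.T.Φ (s j, 0) from rfl, LinearEquiv.symm_apply_apply]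
    rw [e] at h1
    refine (C.cl_spec p _).congr h1 (exists_tcl ?_)
    have h := Res.Lift.mem_Zb _ (idI iZ (jZ.base w)) F.toLift (Res.form_mem _ fun j => C.T.g_ρ (s j)) p (Res.eW id)
    rwa [show F.toLift.φ p (Res.eW id) = F.top from F.toMap_eW id strictMono_id] at h

include C in
theorem existsUnique_xi {p : ℕ} (n : Fin p → S.E.presheaf.stalk w) : ∃! t, IsXi S P w n t := by
  choose s hs using fun j => C.vec_surjective (n j)
  exact ⟨_, (C.isXi_iff s hs _).2 rfl, fun t ht => (C.isXi_iff s hs t).1 ht⟩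

end Chart

end Groth.Agent.H16Derived.TorExcess
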