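import Groth.Agent.H16Derived.TorExcess.Ideals
import Mathlib

/-!
# Elements of the excess conormal sheaf given by elements of both ideals
-/

set_option autoImplicit false
set_option linter.style.haveILetI false
set_option linter.unusedSectionVars false
set_option maxHeartbeats 800000
set_option synthInstance.maxHeartbeats 400000
set_option backward.isDefEq.respectTransparency false

universe u

open CategoryTheory CategoryTheory.Limits AlgebraicGeometry Opposite TopologicalSpace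
open Groth.Agent.H06Mod (stalkLin stalkLin_germ pullStalk pullStalk_germ pullStalk_smul)
open Groth.Agent.H16Derived.TorSelf (stalkLin_comp_apply stalk_exact stalk_injective pullStalk_surjective pullStalk_eq_zero_iff)
open Groth.Agent.H17.FLI (idI stalkMap_surj exists_nhds_germ_eq germ_map)

noncomputable section

namespace Groth.Agent.H16Derived.TorExcess

attribute [local instance] Groth.Agent.H06Mod.stalkAlgebra

section General

variable {X Z : Scheme.{u}}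

theorem stalkLin_add {M N : X.Modules} (φ ψ : M ⟶ N) (x : X) (a : M.presheaf.stalk x) :
    stalkLin (φ + ψ) x a = stalkLin φ x a + stalkLin ψ x a := by
  obtain ⟨U, hU, a, rfl⟩ := M.presheaf.exists_germ_eq a
  rw [stalkLin_germ, stalkLin_germ, stalkLin_germ, ← map_add]
  rfl

theorem stalkLin_zero {M N : X.Modules} (x : X) (a : M.presheaf.stalk x) : stalkLin (0 : M ⟶ N) x a = 0 := by
  obtain ⟨U, hU, a, rfl⟩ := M.presheaf.exists_germ_eq a
  rw [stalkLin_germ]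
  exact map_zero _

theorem stalkLin_id {M : X.Modules} (x : X) (a : M.presheaf.stalk x) : stalkLin (𝟙 M) x a = a := by
  obtain ⟨U, hU, a, rfl⟩ := M.presheaf.exists_germ_eq a
  rw [stalkLin_germ]
  rfl

theorem stAt_congr {i i' : Z ⟶ X} [IsClosedImmersion i] [IsClosedImmersion i'] (e : i = i') (z : Z) {x : X}
    (h : i.base z = x) (h' : i'.base z = x) : stAt i z h = stAt i' z h' := by
  subst e
  rfl

theorem stAt_comp {Z' : Scheme.{u}} (j : Z ⟶ Z') (i : Z' ⟶ X) [IsClosedImmersion i] [IsClosedImmersion (j ≫ i)] (z : Z)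
    {x : X} (h : (j ≫ i).base z = x) (h' : i.base (j.base z) = x) (r : X.presheaf.stalk x) :
    stAt (j ≫ i) z h r = (j.stalkMap z).hom (stAt i (j.base z) h' r) := by
  obtain ⟨U, hU, r, rfl⟩ := X.presheaf.exists_germ_eq r
  rw [stAt_germ (j ≫ i) z h U hU r, stAt_germ i (j.base z) h' U hU r]
  erw [Scheme.Hom.germ_stalkMap_apply]
  rfl

theorem stAt_surjective (i : Z ⟶ X) [IsClosedImmersion i] (z : Z) {x : X} (h : i.base z = x) :
    Function.Surjective (stAt i z h) := by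
  subst h
  rw [stAt_rfl]
  exact stalkMap_surj i z

variable {Z' : Scheme.{u}} (j : Z ⟶ Z') [IsClosedImmersion j] (i : Z' ⟶ X) [IsClosedImmersion i] (z : Z) {x : X}
  (h : i.base (j.base z) = x)

/-- The pullback of the class of an element vanishes exactly on the product of the ideals. -/
theorem pullStalk_cgenAt_eq_zero_iff (K : Ideal (X.presheaf.stalk x))
    (hK : ∀ r, r ∈ K ↔ (j.stalkMap z).hom (stAt i (j.base z) h r) = 0) (a : Is i.ker x) :
    pullStalk j (Omega.conormal i) z (cgenAt i (j.base z) h a) = 0 ↔ (a : X.presheaf.stalk x) ∈ K * Is i.ker x := by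
  constructor
  · intro ha
    have key : ∀ v ∈ idI j z • (⊤ : Submodule (Z'.presheaf.stalk (j.base z)) ((Omega.conormal i).presheaf.stalk (j.base z))),
        ∃ b : Is i.ker x, (b : X.presheaf.stalk x) ∈ K * Is i.ker x ∧ cgenAt i (j.base z) h b = v := by
      intro v hv
      refine Submodule.smul_induction_on hv (fun r hr n _ => ?_) ?_
      · obtain ⟨r, rfl⟩ := stAt_surjective i (j.base z) h r
        obtain ⟨b, rfl⟩ := exists_cgenAt_eq i (j.base z) h n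
        refine ⟨r • b, ?_, cgenAt_smul i (j.base z) h r b⟩
        exact Ideal.mul_mem_mul ((hK r).2 hr) b.2
      · rintro _ _ ⟨b, hb, rfl⟩ ⟨b', hb', rfl⟩
        exact ⟨b + b', add_mem hb hb', map_add _ _ _⟩
    obtain ⟨b, hb, hba⟩ := key _ ((pullStalk_eq_zero_iff _ z _).1 ha)
    have h2 := mem_sq_of_cgenAt_eq_zero i (j.base z) h (a - b) (by rw [map_sub, hba, sub_self])
    have hle : Is i.ker x ≤ K := fun r hr => by
      rw [hK]
      rw [← ker_stAt i (j.base z) h, RingHom.mem_ker] at hr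
      rw [hr, map_zero]
    have h3 := add_mem (Ideal.mul_mono_left hle h2) hb
    simpa using h3
  · intro ha
    suffices key : ∀ (r : X.presheaf.stalk x), r ∈ K * Is i.ker x → ∃ hr : r ∈ Is i.ker x,
        pullStalk j (Omega.conormal i) z (cgenAt i (j.base z) h ⟨r, hr⟩) = 0 by
      obtain ⟨hr, e⟩ := key a.1 ha
      exact e
    intro r hr
    refine Submodule.mul_induction_on hr (fun k hk b hb => ?_) ?_
    · refine ⟨Ideal.mul_mem_left _ k hb, ?_⟩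
      rw [show (⟨k * b, Ideal.mul_mem_left _ k hb⟩ : Is i.ker x) = k • ⟨b, hb⟩ from rfl, cgenAt_smul, pullStalk_smul,
        (hK k).1 hk, zero_smul]
    · rintro a b ⟨ha, ea⟩ ⟨hb, eb⟩
      refine ⟨add_mem ha hb, ?_⟩
      rw [show (⟨a + b, add_mem ha hb⟩ : Is i.ker x) = ⟨a, ha⟩ + ⟨b, hb⟩ from rfl, map_add, map_add, ea, eb, add_zero]

end General

section Square

variable {X Y Z W : Scheme.{u}} {iY : Y ⟶ X} {iZ : Z ⟶ X} [IsClosedImmersion iY] [IsClosedImmersion iZ]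
  {jY : W ⟶ Y} {jZ : W ⟶ Z} [IsClosedImmersion jY] [IsClosedImmersion jZ]

variable (iY iZ jY jZ) in
/-- The intersection of two closed subschemes, with the canonical maps of conormal sheaves. -/
structure Sq where
  comm : jY ≫ iY = jZ ≫ iZ
  ker : (jY ≫ iY).ker = iY.ker ⊔ iZ.ker
  surj : ∀ (y : Y) (z : Z), iY.base y = iZ.base z → ∃ w, jZ.base w = z
  φY : (Scheme.Modules.pullback jY).obj (Omega.conormal iY) ⟶ Omega.conormal (jY ≫ iY)
  hφY : OmegaSh.IsConormalMap (jY ≫ iY) iY (𝟙 X) jY φY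
  φZ : (Scheme.Modules.pullback jZ).obj (Omega.conormal iZ) ⟶ Omega.conormal (jY ≫ iY)
  hφZ : OmegaSh.IsConormalMap (jY ≫ iY) iZ (𝟙 X) jZ φZ

variable (S : Sq iY iZ jY jZ) (w : W)

/-- The excess sheaf. -/
abbrev Sq.E : W.Modules := kernel (coprod.desc S.φY S.φZ)

/-- The inclusion of the excess sheaf. -/
abbrev Sq.ι : S.E ⟶ (Scheme.Modules.pullback jY).obj (Omega.conormal iY) ⨿ (Scheme.Modules.pullback jZ).obj (Omega.conormal iZ) :=
  kernel.ι (coprod.desc S.φY S.φZ)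

variable (iZ jZ) in
/-- The image in `X` of a point of the intersection. -/
abbrev pt : X := iZ.base (jZ.base w)

include S in
theorem Sq.hW : (jY ≫ iY).base w = pt iZ jZ w := by
  rw [S.comm]
  rfl

include S in
theorem Sq.hY : iY.base (jY.base w) = pt iZ jZ w := S.hW w

include S in
theorem Sq.Is_W : Is (jY ≫ iY).ker (pt iZ jZ w) = Is iY.ker (pt iZ jZ w) ⊔ Is iZ.ker (pt iZ jZ w) := by
  rw [S.ker, Is_sup]

/-- The map of the local ring of `X` to that of the intersection. -/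
abbrev Sq.ρW : X.presheaf.stalk (pt iZ jZ w) →+* W.presheaf.stalk w := stAt (jY ≫ iY) w (S.hW w)

theorem Sq.mem_K_iff (r : X.presheaf.stalk (pt iZ jZ w)) :
    r ∈ Is (jY ≫ iY).ker (pt iZ jZ w) ↔ S.ρW w r = 0 := by
  rw [← ker_stAt (jY ≫ iY) w (S.hW w), RingHom.mem_ker]

theorem Sq.ρW_eq_Y (r : X.presheaf.stalk (pt iZ jZ w)) :
    S.ρW w r = (jY.stalkMap w).hom (stAt iY (jY.base w) (S.hY w) r) := stAt_comp jY iY w (S.hW w) (S.hY w) r

theorem Sq.ρW_eq_Z (r : X.presheaf.stalk (pt iZ jZ w)) :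
    S.ρW w r = (jZ.stalkMap w).hom (stAt iZ (jZ.base w) rfl r) := by
  rw [Sq.ρW, stAt_congr S.comm w (S.hW w) (show (jZ ≫ iZ).base w = pt iZ jZ w from rfl)]
  exact stAt_comp jZ iZ w rfl rfl r

/-- The class of an element of the first ideal in the sum. -/
def Sq.σY : Is iY.ker (pt iZ jZ w) →+
    ((Scheme.Modules.pullback jY).obj (Omega.conormal iY) ⨿ (Scheme.Modules.pullback jZ).obj (Omega.conormal iZ)).presheaf.stalk w :=
  (stalkLin (coprod.inl (X := (Scheme.Modules.pullback jY).obj (Omega.conormal iY))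
    (Y := (Scheme.Modules.pullback jZ).obj (Omega.conormal iZ))) w).toAddMonoidHom.comp
    ((pullStalk jY (Omega.conormal iY) w).hom.comp (cgenAt iY (jY.base w) (S.hY w)))

/-- The class of an element of the second ideal in the sum. -/
def Sq.σZ (_S : Sq iY iZ jY jZ) (w : W) : Is iZ.ker (pt iZ jZ w) →+
    ((Scheme.Modules.pullback jY).obj (Omega.conormal iY) ⨿ (Scheme.Modules.pullback jZ).obj (Omega.conormal iZ)).presheaf.stalk w :=
  (stalkLin (coprod.inr (X := (Scheme.Modules.pullback jY).obj (Omega.conormal iY))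
    (Y := (Scheme.Modules.pullback jZ).obj (Omega.conormal iZ))) w).toAddMonoidHom.comp
    ((pullStalk jZ (Omega.conormal iZ) w).hom.comp (cgenAt iZ (jZ.base w) rfl))

theorem Sq.σY_smul (r : X.presheaf.stalk (pt iZ jZ w)) (a : Is iY.ker (pt iZ jZ w)) :
    S.σY w (r • a) = S.ρW w r • S.σY w a := by
  show stalkLin _ w (pullStalk jY (Omega.conormal iY) w (cgenAt iY (jY.base w) (S.hY w) (r • a))) = _
  rw [cgenAt_smul, pullStalk_smul, map_smul, S.ρW_eq_Y]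
  rfl

theorem Sq.σZ_smul (r : X.presheaf.stalk (pt iZ jZ w)) (a : Is iZ.ker (pt iZ jZ w)) :
    S.σZ w (r • a) = S.ρW w r • S.σZ w a := by
  show stalkLin _ w (pullStalk jZ (Omega.conormal iZ) w (cgenAt iZ (jZ.base w) rfl (r • a))) = _
  rw [cgenAt_smul, pullStalk_smul, map_smul, S.ρW_eq_Z]
  rfl

/-- `n` is the excess class of the element `f` of both ideals. -/
def Sq.Cls (f : X.presheaf.stalk (pt iZ jZ w)) (n : S.E.presheaf.stalk w) : Prop :=
  ∃ (hY : f ∈ Is iY.ker (pt iZ jZ w)) (hZ : f ∈ Is iZ.ker (pt iZ jZ w)),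
    stalkLin S.ι w n = S.σY w ⟨f, hY⟩ - S.σZ w ⟨f, hZ⟩

variable {S w}

theorem Sq.Cls.unique {f : X.presheaf.stalk (pt iZ jZ w)} {n n' : S.E.presheaf.stalk w}
    (h : S.Cls w f n) (h' : S.Cls w f n') : n = n' := by
  obtain ⟨_, _, h⟩ := h
  obtain ⟨_, _, h'⟩ := h'
  exact stalk_injective w S.ι (h.trans h'.symm)

theorem Sq.Cls.add {f f' : X.presheaf.stalk (pt iZ jZ w)} {n n' : S.E.presheaf.stalk w}
    (h : S.Cls w f n) (h' : S.Cls w f' n') : S.Cls w (f + f') (n + n') := by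
  obtain ⟨hY, hZ, h⟩ := h
  obtain ⟨hY', hZ', h'⟩ := h'
  refine ⟨add_mem hY hY', add_mem hZ hZ', ?_⟩
  rw [show (⟨f + f', add_mem hY hY'⟩ : Is iY.ker _) = ⟨f, hY⟩ + ⟨f', hY'⟩ from rfl,
    show (⟨f + f', add_mem hZ hZ'⟩ : Is iZ.ker _) = ⟨f, hZ⟩ + ⟨f', hZ'⟩ from rfl, map_add, map_add, map_add, h, h']
  abel

theorem Sq.Cls.smul {f : X.presheaf.stalk (pt iZ jZ w)} {n : S.E.presheaf.stalk w}
    (h : S.Cls w f n) (r : X.presheaf.stalk (pt iZ jZ w)) : S.Cls w (r * f) (S.ρW w r • n) := by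
  obtain ⟨hY, hZ, h⟩ := h
  refine ⟨Ideal.mul_mem_left _ r hY, Ideal.mul_mem_left _ r hZ, ?_⟩
  rw [show (⟨r * f, Ideal.mul_mem_left _ r hY⟩ : Is iY.ker _) = r • ⟨f, hY⟩ from rfl,
    show (⟨r * f, Ideal.mul_mem_left _ r hZ⟩ : Is iZ.ker _) = r • ⟨f, hZ⟩ from rfl, S.σY_smul, S.σZ_smul,
    map_smul, h, smul_sub]

theorem Sq.cls_zero : S.Cls w 0 0 := ⟨zero_mem _, zero_mem _, by
  rw [show (⟨0, zero_mem _⟩ : Is iY.ker (pt iZ jZ w)) = 0 from rfl, show (⟨0, zero_mem _⟩ : Is iZ.ker (pt iZ jZ w)) = 0 from rfl,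
    map_zero, map_zero, map_zero, sub_self]⟩

theorem Sq.Cls.neg {f : X.presheaf.stalk (pt iZ jZ w)} {n : S.E.presheaf.stalk w}
    (h : S.Cls w f n) : S.Cls w (-f) (-n) := by
  have h' := h.smul (-1)
  rwa [neg_one_mul, map_neg, map_one, neg_one_smul] at h'

variable (S w)

theorem Sq.stalkLin_desc_σY (a : Is iY.ker (pt iZ jZ w)) :
    ∃ ha : (a : X.presheaf.stalk (pt iZ jZ w)) ∈ Is (jY ≫ iY).ker (pt iZ jZ w),
      stalkLin (coprod.desc S.φY S.φZ) w (S.σY w a) = cgenAt (jY ≫ iY) w (S.hW w) ⟨a.1, ha⟩ := by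
  obtain ⟨ha, e⟩ := stalkLin_conormalMap_cgenAt (jY ≫ iY) w iY jY S.hφY (S.hW w) (S.hY w) a
  refine ⟨ha, ?_⟩
  show stalkLin (coprod.desc S.φY S.φZ) w (stalkLin _ w (pullStalk jY (Omega.conormal iY) w (cgenAt iY (jY.base w) (S.hY w) a))) = _
  rw [← stalkLin_comp_apply, coprod.inl_desc]
  exact e

theorem Sq.stalkLin_desc_σZ (a : Is iZ.ker (pt iZ jZ w)) :
    ∃ ha : (a : X.presheaf.stalk (pt iZ jZ w)) ∈ Is (jY ≫ iY).ker (pt iZ jZ w),
      stalkLin (coprod.desc S.φY S.φZ) w (S.σZ w a) = cgenAt (jY ≫ iY) w (S.hW w) ⟨a.1, ha⟩ := by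
  obtain ⟨ha, e⟩ := stalkLin_conormalMap_cgenAt (jY ≫ iY) w iZ jZ S.hφZ (S.hW w) rfl a
  refine ⟨ha, ?_⟩
  show stalkLin (coprod.desc S.φY S.φZ) w (stalkLin _ w (pullStalk jZ (Omega.conormal iZ) w (cgenAt iZ (jZ.base w) rfl a))) = _
  rw [← stalkLin_comp_apply, coprod.inr_desc]
  exact e

/-- Elements of both ideals have classes. -/
theorem Sq.exists_cls {f : X.presheaf.stalk (pt iZ jZ w)} (hY : f ∈ Is iY.ker (pt iZ jZ w))
    (hZ : f ∈ Is iZ.ker (pt iZ jZ w)) : ∃ n, S.Cls w f n := by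
  obtain ⟨n, hn⟩ := stalk_exact w
    (S := ShortComplex.mk S.ι (coprod.desc S.φY S.φZ) (kernel.condition _))
    (ShortComplex.exact_kernel _) (S.σY w ⟨f, hY⟩ - S.σZ w ⟨f, hZ⟩) (by
      show stalkLin (coprod.desc S.φY S.φZ) w _ = 0
      obtain ⟨_, e1⟩ := S.stalkLin_desc_σY w ⟨f, hY⟩
      obtain ⟨_, e2⟩ := S.stalkLin_desc_σZ w ⟨f, hZ⟩
      rw [map_sub, e1, e2, sub_self])
  exact ⟨n, hY, hZ, hn⟩

theorem Sq.σY_eq_zero_iff (a : Is iY.ker (pt iZ jZ w)) :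
    S.σY w a = 0 ↔ (a : X.presheaf.stalk _) ∈ Is (jY ≫ iY).ker (pt iZ jZ w) * Is iY.ker (pt iZ jZ w) := by
  rw [← pullStalk_cgenAt_eq_zero_iff jY iY w (S.hY w) (Is (jY ≫ iY).ker (pt iZ jZ w))
    (fun r => by rw [S.mem_K_iff, S.ρW_eq_Y]) a]
  refine ⟨fun h => ?_, fun h => (congrArg (stalkLin _ w) h).trans (map_zero _)⟩
  have h2 := congrArg (stalkLin (coprod.desc (𝟙 ((Scheme.Modules.pullback jY).obj (Omega.conormal iY))) 0) w) h
  rw [map_zero] at h2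
  refine Eq.trans ?_ h2
  show _ = stalkLin _ w (stalkLin coprod.inl w _)
  rw [← stalkLin_comp_apply, coprod.inl_desc, stalkLin_id]
  rfl

theorem Sq.σZ_eq_zero_iff (a : Is iZ.ker (pt iZ jZ w)) :
    S.σZ w a = 0 ↔ (a : X.presheaf.stalk _) ∈ Is (jY ≫ iY).ker (pt iZ jZ w) * Is iZ.ker (pt iZ jZ w) := by
  rw [← pullStalk_cgenAt_eq_zero_iff jZ iZ w rfl (Is (jY ≫ iY).ker (pt iZ jZ w))
    (fun r => by rw [S.mem_K_iff, S.ρW_eq_Z]) a]
  refine ⟨fun h => ?_, fun h => (congrArg (stalkLin _ w) h).trans (map_zero _)⟩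
  have h2 := congrArg (stalkLin (coprod.desc 0 (𝟙 ((Scheme.Modules.pullback jZ).obj (Omega.conormal iZ)))) w) h
  rw [map_zero] at h2
  refine Eq.trans ?_ h2
  show _ = stalkLin _ w (stalkLin coprod.inr w _)
  rw [← stalkLin_comp_apply, coprod.inr_desc, stalkLin_id]
  rfl

/-- A class vanishes only if both components do. -/
theorem Sq.mem_mul_of_cls_zero {f : X.presheaf.stalk (pt iZ jZ w)} (h : S.Cls w f 0) :
    f ∈ Is (jY ≫ iY).ker (pt iZ jZ w) * Is iY.ker (pt iZ jZ w) ∧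
      f ∈ Is (jY ≫ iY).ker (pt iZ jZ w) * Is iZ.ker (pt iZ jZ w) := by
  obtain ⟨hY, hZ, h⟩ := h
  rw [map_zero] at h
  have h1 : S.σY w ⟨f, hY⟩ = 0 := by
    rw [S.σY_eq_zero_iff]
    have h' : S.σY w ⟨f, hY⟩ = S.σZ w ⟨f, hZ⟩ := sub_eq_zero.1 h.symm
    have h2 := congrArg (stalkLin (coprod.desc (𝟙 ((Scheme.Modules.pullback jY).obj (Omega.conormal iY))) 0) w) h'
    change stalkLin _ w (stalkLin coprod.inl w _) = stalkLin _ w (stalkLin coprod.inr w _) at h2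
    rw [← stalkLin_comp_apply, ← stalkLin_comp_apply, coprod.inl_desc, coprod.inr_desc, stalkLin_id, stalkLin_zero] at h2
    exact (pullStalk_cgenAt_eq_zero_iff jY iY w (S.hY w) (Is (jY ≫ iY).ker (pt iZ jZ w))
      (fun r => by rw [S.mem_K_iff, S.ρW_eq_Y]) ⟨f, hY⟩).1 h2
  refine ⟨(S.σY_eq_zero_iff w ⟨f, hY⟩).1 h1, (S.σZ_eq_zero_iff w ⟨f, hZ⟩).1 ?_⟩
  rw [h1, zero_sub] at h
  exact neg_eq_zero.1 h.symm

set_option maxHeartbeats 4000000 in
/-- Every element of the excess stalk is a class. -/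
theorem Sq.exists_rep (n : S.E.presheaf.stalk w) : ∃ f, S.Cls w f n := by
  have key : ∀ m : ((Scheme.Modules.pullback jY).obj (Omega.conormal iY) ⨿ (Scheme.Modules.pullback jZ).obj (Omega.conormal iZ)).presheaf.stalk w,
      m = stalkLin coprod.inl w (stalkLin (coprod.desc (𝟙 _) 0) w m) +
        stalkLin coprod.inr w (stalkLin (coprod.desc 0 (𝟙 _)) w m) := fun m => by
    rw [← stalkLin_comp_apply, ← stalkLin_comp_apply, ← stalkLin_add]
    conv_lhs => rw [← stalkLin_id w m]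
    refine congrArg (fun φ => stalkLin φ w m) ?_
    refine coprod.hom_ext ?_ ?_ <;> simp
  let m := stalkLin S.ι w n
  have hm := key m
  obtain ⟨u, hu⟩ := pullStalk_surjective (i := jY) (Omega.conormal iY) w
    (stalkLin (coprod.desc (𝟙 _) 0) w m)
  obtain ⟨v, hv⟩ := pullStalk_surjective (i := jZ) (Omega.conormal iZ) w
    (stalkLin (coprod.desc 0 (𝟙 _)) w m)
  obtain ⟨a, rfl⟩ := exists_cgenAt_eq iY (jY.base w) (S.hY w) u
  obtain ⟨b, rfl⟩ := exists_cgenAt_eq iZ (jZ.base w) rfl v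
  have hm' : stalkLin S.ι w n = S.σY w a + S.σZ w b := by
    show m = _
    rw [hm, ← hu, ← hv]
    rfl
  obtain ⟨ha, ea⟩ := S.stalkLin_desc_σY w a
  obtain ⟨hb, eb⟩ := S.stalkLin_desc_σZ w b
  have h0 : cgenAt (jY ≫ iY) w (S.hW w) (⟨a.1, ha⟩ + ⟨b.1, hb⟩) = 0 := by
    rw [map_add, ← ea, ← eb, ← map_add, ← hm', ← stalkLin_comp_apply, kernel.condition, stalkLin_zero]
  have h2 : a.1 + b.1 ∈ Is (jY ≫ iY).ker (pt iZ jZ w) * Is (jY ≫ iY).ker (pt iZ jZ w) :=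
    mem_sq_of_cgenAt_eq_zero (jY ≫ iY) w (S.hW w) _ h0
  have h3 : a.1 + b.1 ∈ Is (jY ≫ iY).ker (pt iZ jZ w) * (Is iY.ker (pt iZ jZ w) ⊔ Is iZ.ker (pt iZ jZ w)) := by
    rwa [← S.Is_W]
  rw [Ideal.mul_sup] at h3
  obtain ⟨p, hp, q, hq, hpq⟩ := Submodule.mem_sup.1 h3
  have hpY : p ∈ Is iY.ker (pt iZ jZ w) := Ideal.mul_le_right hp
  have hqZ : q ∈ Is iZ.ker (pt iZ jZ w) := Ideal.mul_le_right hq
  have hf : a.1 - p = q - b.1 := by linear_combination -hpq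
  refine ⟨a.1 - p, sub_mem a.2 hpY, hf ▸ sub_mem hqZ b.2, ?_⟩
  rw [show (⟨a.1 - p, sub_mem a.2 hpY⟩ : Is iY.ker _) = a - ⟨p, hpY⟩ from rfl,
    show (⟨a.1 - p, hf ▸ sub_mem hqZ b.2⟩ : Is iZ.ker _) = ⟨q, hqZ⟩ - b from Subtype.ext hf,
    map_sub, map_sub, (S.σY_eq_zero_iff w ⟨p, hpY⟩).2 hp, (S.σZ_eq_zero_iff w ⟨q, hqZ⟩).2 hq, hm']
  abel

/-- Near a point a class is given by sections. -/
theorem Sq.exists_cls_nhds {V : W.Opens} (ν : Γ(S.E, V)) (hw : w ∈ V) (f : X.presheaf.stalk (pt iZ jZ w))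
    (h : S.Cls w f (S.E.presheaf.germ V w hw ν)) :
    ∃ (U : X.Opens) (hU : pt iZ jZ w ∈ U) (fs : Γ(X, U)), X.presheaf.germ U (pt iZ jZ w) hU fs = f ∧
      ∃ (V' : W.Opens) (_ : w ∈ V') (hV : V' ≤ V), ∀ (w' : W) (hw' : w' ∈ V'), ∃ hU' : pt iZ jZ w' ∈ U,
        S.Cls w' (X.presheaf.germ U (pt iZ jZ w') hU' fs) (S.E.presheaf.germ V w' (hV hw') ν) := by
  obtain ⟨hY, hZ, h⟩ := h
  obtain ⟨U₁, hU₁, -, m₁, hm₁⟩ := exists_germ_of_mem_Is hY ⊤ trivial
  obtain ⟨U₂, hU₂, -, m₂, hm₂⟩ := exists_germ_of_mem_Is hZ ⊤ trivial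
  obtain ⟨U, hU, k₁, k₂, hk⟩ := X.presheaf.germ_eq (U := U₁) (V := U₂) (pt iZ jZ w) hU₁ hU₂ _ _ (hm₁.symm.trans hm₂)
  let mY : Γ(ClSub.idealMod iY.ker, U) := (ClSub.idealMod iY.ker).presheaf.map k₁.op m₁
  let mZ : Γ(ClSub.idealMod iZ.ker, U) := (ClSub.idealMod iZ.ker).presheaf.map k₂.op m₂
  let fs : Γ(X, U) := OmegaSh.idealSect iY.ker U mY
  have hres : ∀ (𝓘 : X.IdealSheafData) {U' : X.Opens} (k : U ⟶ U') (m : Γ(ClSub.idealMod 𝓘, U')),
      OmegaSh.idealSect 𝓘 U ((ClSub.idealMod 𝓘).presheaf.map k.op m) = X.presheaf.map k.op (OmegaSh.idealSect 𝓘 U' m) :=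
    fun 𝓘 U' k m => H29Blow.idealSect_res 𝓘 k.le m
  have hfs : fs = OmegaSh.idealSect iZ.ker U mZ := by
    simp only [fs, mY, mZ, hres]
    exact hk
  have hfsf : X.presheaf.germ U (pt iZ jZ w) hU fs = f := by
    simp only [fs, mY, hres, TopCat.Presheaf.germ_res_apply]
    exact hm₁.symm
  -- the sections
  let V₁ : W.Opens := V ⊓ (jY ⁻¹ᵁ (iY ⁻¹ᵁ U) ⊓ jZ ⁻¹ᵁ (iZ ⁻¹ᵁ U))
  have hV₁ : ∀ w' : W, w' ∈ V → pt iZ jZ w' ∈ U → w' ∈ V₁ := fun w' h1 h2 =>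
    ⟨h1, show iY.base (jY.base w') ∈ U from (S.hY w').symm ▸ h2, h2⟩
  let M := (Scheme.Modules.pullback jY).obj (Omega.conormal iY) ⨿ (Scheme.Modules.pullback jZ).obj (Omega.conormal iZ)
  let s₁ : Γ(M, V₁) := M.presheaf.map (homOfLE (fun _ h => h.2.1 : V₁ ≤ jY ⁻¹ᵁ (iY ⁻¹ᵁ U))).op
    ((coprod.inl (X := (Scheme.Modules.pullback jY).obj (Omega.conormal iY))
      (Y := (Scheme.Modules.pullback jZ).obj (Omega.conormal iZ))).app (jY ⁻¹ᵁ (iY ⁻¹ᵁ U))
        (OmegaSh.pullSect jY (Omega.conormal iY) (iY ⁻¹ᵁ U) (OmegaSh.conormalSect iY U mY)))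
  let s₂ : Γ(M, V₁) := M.presheaf.map (homOfLE (fun _ h => h.2.2 : V₁ ≤ jZ ⁻¹ᵁ (iZ ⁻¹ᵁ U))).op
    ((coprod.inr (X := (Scheme.Modules.pullback jY).obj (Omega.conormal iY))
      (Y := (Scheme.Modules.pullback jZ).obj (Omega.conormal iZ))).app (jZ ⁻¹ᵁ (iZ ⁻¹ᵁ U))
        (OmegaSh.pullSect jZ (Omega.conormal iZ) (iZ ⁻¹ᵁ U) (OmegaSh.conormalSect iZ U mZ)))
  have hs : ∀ (w' : W) (h1 : w' ∈ V₁) (hU' : pt iZ jZ w' ∈ U)
      (hY' : X.presheaf.germ U (pt iZ jZ w') hU' fs ∈ Is iY.ker (pt iZ jZ w'))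
      (hZ' : X.presheaf.germ U (pt iZ jZ w') hU' fs ∈ Is iZ.ker (pt iZ jZ w')),
      M.presheaf.germ V₁ w' h1 (s₁ - s₂) = S.σY w' ⟨_, hY'⟩ - S.σZ w' ⟨_, hZ'⟩ := by
    intro w' h1 hU' hY' hZ'
    simp only [s₁, s₂]
    rw [map_sub, germ_map, germ_map]
    show _ = stalkLin _ w' (pullStalk jY (Omega.conormal iY) w' (cgenAt iY (jY.base w') (S.hY w') _)) -
      stalkLin _ w' (pullStalk jZ (Omega.conormal iZ) w' (cgenAt iZ (jZ.base w') rfl _))
    rw [cgenAt_germ iY (jY.base w') (S.hY w') U hU' mY _ rfl,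
      cgenAt_germ iZ (jZ.base w') rfl U hU' mZ _ (congrArg _ hfs)]
    erw [pullStalk_germ, pullStalk_germ, stalkLin_germ, stalkLin_germ]
  have hwV₁ : w ∈ V₁ := hV₁ w hw hU
  obtain ⟨V', hwV', hV'V, hV'V₁, heq⟩ := exists_nhds_germ_eq M (U := V) (V := V₁) hw hwV₁ (S.ι.app V ν) (s₁ - s₂) (by
    rw [← stalkLin_germ, h, hs w hwV₁ hU (hfsf ▸ hY) (hfsf ▸ hZ)]
    simp only [hfsf])
  refine ⟨U, hU, fs, hfsf, V', hwV', hV'V, fun w' hw' => ?_⟩
  have hU' : pt iZ jZ w' ∈ U := (hV'V₁ hw').2.2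
  refine ⟨hU', germ_mem_Is iY.ker U _ hU' mY, hfs ▸ germ_mem_Is iZ.ker U _ hU' mZ, ?_⟩
  rw [stalkLin_germ]
  exact (heq w' hw').trans (hs w' _ hU' _ _)

end Square

end Groth.Agent.H16Derived.TorExcess
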