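import Groth.Agent.H16Derived.TorSelf.Near
import Groth.Agent.H29Omega.ConormalMapStalk
import Mathlib

/-!
# Conormal classes of elements of stalks of ideal sheaves, at a point of the ambient scheme
-/

set_option autoImplicit false
set_option linter.style.haveILetI false
set_option linter.unusedSectionVars false
set_option maxHeartbeats 800000
set_option backward.isDefEq.respectTransparency false

universe u

open CategoryTheory CategoryTheory.Limits AlgebraicGeometry Opposite TopologicalSpace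
open Groth.Agent.H06Mod (stalkLin stalkLin_germ pullStalk pullStalk_germ pullStalk_smul)
open Groth.Agent.H29Omega (idealStalk idealStalk_germ idealStalk_injective range_idealStalk range_idealStalk_ker cgen cgen_germ cgen_smul)
open Groth.Agent.H17.FLI (germ_map idI)

noncomputable section

namespace Groth.Agent.H16Derived.TorExcess

attribute [local instance] Groth.Agent.H06Mod.stalkAlgebra

variable {X : Scheme.{u}}

/-- The stalk of an ideal sheaf, inside the local ring. -/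
def Is (𝓘 : X.IdealSheafData) (x : X) : Ideal (X.presheaf.stalk x) := LinearMap.range (idealStalk 𝓘 x)

theorem germ_mem_Is (𝓘 : X.IdealSheafData) (U : X.Opens) (x : X) (hx : x ∈ U) (m : Γ(ClSub.idealMod 𝓘, U)) :
    X.presheaf.germ U x hx (OmegaSh.idealSect 𝓘 U m) ∈ Is 𝓘 x :=
  ⟨_, idealStalk_germ 𝓘 x U hx m⟩

theorem exists_germ_of_mem_Is {𝓘 : X.IdealSheafData} {x : X} {a : X.presheaf.stalk x} (ha : a ∈ Is 𝓘 x)
    (O : X.Opens) (hO : x ∈ O) :
    ∃ (U : X.Opens) (h : x ∈ U) (_ : U ≤ O) (m : Γ(ClSub.idealMod 𝓘, U)),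
      a = X.presheaf.germ U x h (OmegaSh.idealSect 𝓘 U m) := by
  obtain ⟨b, rfl⟩ := ha
  obtain ⟨U, h, m, rfl⟩ := (ClSub.idealMod 𝓘).presheaf.exists_germ_eq b
  refine ⟨U ⊓ O, ⟨h, hO⟩, inf_le_right, (ClSub.idealMod 𝓘).presheaf.map (homOfLE inf_le_left).op m, ?_⟩
  rw [← idealStalk_germ 𝓘 x (U ⊓ O) ⟨h, hO⟩, germ_map]

theorem Is_sup (𝓘 𝓙 : X.IdealSheafData) (x : X) : Is (𝓘 ⊔ 𝓙) x = Is 𝓘 x ⊔ Is 𝓙 x := by
  obtain ⟨_, ⟨V, hV : IsAffineOpen V, rfl⟩, hxV, -⟩ :=
    X.isBasis_affineOpens.exists_subset_of_mem_open (Set.mem_univ x) isOpen_univ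
  rw [Is, Is, Is, range_idealStalk (𝓘 ⊔ 𝓙) x ⟨V, hV⟩ hxV, range_idealStalk 𝓘 x ⟨V, hV⟩ hxV,
    range_idealStalk 𝓙 x ⟨V, hV⟩ hxV, ← Ideal.map_sup]
  simp

variable {Z : Scheme.{u}} (i : Z ⟶ X) [IsClosedImmersion i]

theorem Is_ker (z : Z) : Is i.ker (i.base z) = idI i z := range_idealStalk_ker i z

variable (z : Z) {x : X}

/-- The map of local rings from a point equal to the image. -/
def stAt (h : i.base z = x) : X.presheaf.stalk x →+* Z.presheaf.stalk z :=
  (X.presheaf.stalkSpecializes (specializes_of_eq h) ≫ i.stalkMap z).hom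

theorem stAt_rfl : stAt i z (rfl : i.base z = i.base z) = (i.stalkMap z).hom := by
  simp [stAt]

theorem stAt_germ (h : i.base z = x) (U : X.Opens) (hx : x ∈ U) (s : Γ(X, U)) :
    stAt i z h (X.presheaf.germ U x hx s) = Z.presheaf.germ (i ⁻¹ᵁ U) z (show i.base z ∈ U from h ▸ hx) (i.app U s) := by
  subst h
  rw [stAt_rfl]
  exact Scheme.Hom.germ_stalkMap_apply i U z hx s

theorem ker_stAt (h : i.base z = x) : RingHom.ker (stAt i z h) = Is i.ker x := by
  subst h
  rw [stAt_rfl, Is_ker]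

/-- The class in the conormal sheaf of an element of the ideal at a point. -/
def cgenAt (h : i.base z = x) : Is i.ker x →+ (Omega.conormal i).presheaf.stalk z :=
  ((pullStalk i (ClSub.idealMod i.ker) z).hom.comp
    ((ClSub.idealMod i.ker).presheaf.stalkSpecializes (specializes_of_eq h)).hom).comp
    (LinearEquiv.ofInjective (idealStalk i.ker x) (idealStalk_injective _ _)).symm.toLinearMap.toAddMonoidHom

theorem cgenAt_rfl (a : Is i.ker (i.base z)) :
    cgenAt i z rfl a = cgen i z ⟨a.1, (Is_ker i z).le a.2⟩ := by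
  obtain ⟨U, hU, -, m, hm⟩ := exists_germ_of_mem_Is a.2 ⊤ trivial
  rw [cgen_germ i z U hU m _ hm]
  have e : (LinearEquiv.ofInjective (idealStalk i.ker (i.base z)) (idealStalk_injective _ _)).symm a =
      (ClSub.idealMod i.ker).presheaf.germ U (i.base z) hU m :=
    (LinearEquiv.symm_apply_eq _).2 (Subtype.ext (hm.trans (idealStalk_germ _ _ U hU m).symm))
  show pullStalk i (ClSub.idealMod i.ker) z
    ((ClSub.idealMod i.ker).presheaf.stalkSpecializes _
      ((LinearEquiv.ofInjective (idealStalk i.ker (i.base z)) (idealStalk_injective _ _)).symm a)) = _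
  rw [e, TopCat.Presheaf.germ_stalkSpecializes_apply]
  exact pullStalk_germ i (ClSub.idealMod i.ker) z U hU m

theorem cgenAt_germ (h : i.base z = x) (U : X.Opens) (hx : x ∈ U) (m : Γ(ClSub.idealMod i.ker, U)) (a : Is i.ker x)
    (ha : (a : X.presheaf.stalk x) = X.presheaf.germ U x hx (OmegaSh.idealSect i.ker U m)) :
    cgenAt i z h a = (Omega.conormal i).presheaf.germ (i ⁻¹ᵁ U) z (show i.base z ∈ U from h ▸ hx) (OmegaSh.conormalSect i U m) := by
  subst h
  rw [cgenAt_rfl]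
  exact cgen_germ i z U hx m _ ha

theorem cgenAt_smul (h : i.base z = x) (r : X.presheaf.stalk x) (a : Is i.ker x) :
    cgenAt i z h (r • a) = stAt i z h r • cgenAt i z h a := by
  subst h
  rw [cgenAt_rfl, cgenAt_rfl, stAt_rfl]
  exact cgen_smul i z r ⟨a.1, (Is_ker i z).le a.2⟩

theorem exists_cgenAt_eq (h : i.base z = x) (v : (Omega.conormal i).presheaf.stalk z) :
    ∃ a, cgenAt i z h a = v := by
  subst h
  obtain ⟨a, rfl⟩ := H17.Conormal.exists_cgen_eq i z v
  exact ⟨⟨a.1, (Is_ker i z).ge a.2⟩, cgenAt_rfl i z _⟩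

theorem mem_sq_of_cgenAt_eq_zero (h : i.base z = x) (a : Is i.ker x) (ha : cgenAt i z h a = 0) :
    (a : X.presheaf.stalk x) ∈ Is i.ker x * Is i.ker x := by
  subst h
  rw [cgenAt_rfl] at ha
  have h := H17.Conormal.mem_sq_of_cgen_eq_zero i z _ ha
  rw [sq] at h
  exact (Ideal.mul_mono (Is_ker i z).ge (Is_ker i z).ge) h

variable {Z' : Scheme.{u}} (i' : Z' ⟶ X) [IsClosedImmersion i'] (j : Z ⟶ Z')

/-- A conormal map over the base preserves the classes of elements. -/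
theorem stalkLin_conormalMap_cgenAt {φ : (Scheme.Modules.pullback j).obj (Omega.conormal i') ⟶ Omega.conormal i}
    (hφ : OmegaSh.IsConormalMap i i' (𝟙 X) j φ) (h : i.base z = x) (h' : i'.base (j.base z) = x)
    (a : Is i'.ker x) :
    ∃ ha : (a : X.presheaf.stalk x) ∈ Is i.ker x,
      stalkLin φ z (pullStalk j (Omega.conormal i') z (cgenAt i' (j.base z) h' a)) = cgenAt i z h ⟨a.1, ha⟩ := by
  obtain ⟨U, hU, -, m, hm⟩ := exists_germ_of_mem_Is a.2 ⊤ trivial
  let s := (S9371.idealMap i i' (𝟙 X) j hφ.1).app U m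
  have hs : OmegaSh.idealSect i.ker ((𝟙 X) ⁻¹ᵁ U) s = (𝟙 X : X ⟶ X).app U (OmegaSh.idealSect i'.ker U m) :=
    S9371.idealSect_idealMap i i' (𝟙 X) j hφ.1 U m
  have hval : (a : X.presheaf.stalk x) = X.presheaf.germ ((𝟙 X) ⁻¹ᵁ U) x hU (OmegaSh.idealSect i.ker ((𝟙 X) ⁻¹ᵁ U) s) := by
    rw [hm, hs]
    rfl
  refine ⟨hval ▸ germ_mem_Is _ _ _ _ _, ?_⟩
  rw [cgenAt_germ i' (j.base z) h' U hU m a hm, cgenAt_germ i z h ((𝟙 X) ⁻¹ᵁ U) hU s _ hval]
  erw [pullStalk_germ j (Omega.conormal i') z (i' ⁻¹ᵁ U) (show i'.base (j.base z) ∈ U from h' ▸ hU)]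
  erw [stalkLin_germ]
  refine TopCat.Presheaf.germ_ext _ (i ⁻¹ᵁ ((𝟙 X) ⁻¹ᵁ U) ⊓ j ⁻¹ᵁ (i' ⁻¹ᵁ U))
    ⟨show i.base z ∈ U from h ▸ hU, show i'.base (j.base z) ∈ U from h' ▸ hU⟩ (homOfLE inf_le_right) (homOfLE inf_le_left) ?_
  exact hφ.2 U m s hs _ inf_le_right inf_le_left

end Groth.Agent.H16Derived.TorExcess
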