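import Groth.Agent.H16Derived.TorExcess.Near
import Groth.Agent.H16Derived.TorSelf.Iso
import Mathlib

/-!
# The Tor sheaves of two regular immersions are the exterior powers of the excess sheaf
-/

set_option autoImplicit false
set_option linter.style.haveILetI false
set_option linter.unusedSectionVars false
set_option maxHeartbeats 1000000
set_option synthInstance.maxHeartbeats 400000
set_option backward.isDefEq.respectTransparency false

universe u

open CategoryTheory CategoryTheory.Limits AlgebraicGeometry Opposite TopologicalSpace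
open exteriorPower (ιMulti)
open Groth.Agent.H06Mod (stalkLin stalkLin_germ pullStalk pullStalk_smul)
open Groth.Agent.H17.FLI (O' idI stalkMap_surj section_ext germ_map exists_hom_of_compat)
open Groth.Agent.H16Derived.ProjFormula (push pull adj Killed killed_push isIso_unit_of_killed)
open Groth.Agent.H16Derived.TorSelf (Res Reso deg exists_section_of_local pullStalk_eq_zero_iff pullStalk_surjective stalk_exact)

noncomputable section

namespace Groth.Agent.H16Derived.TorExcess

attribute [local instance] Groth.Agent.H06Mod.stalkAlgebra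

variable {X Y Z W : Scheme.{u}} {iY : Y ⟶ X} {iZ : Z ⟶ X} [IsClosedImmersion iY] [IsClosedImmersion iZ]
  {jY : W ⟶ Y} {jZ : W ⟶ Z} [IsClosedImmersion jY] [IsClosedImmersion jZ] (S : Sq iY iZ jY jZ) (P : Reso iY)
  (hc : ∀ w, Nonempty (Chart S P w))

/-- The Tor sheaves on the intersection. -/
abbrev wT (S : Sq iY iZ jY jZ) (P : Reso iY) (p : ℕ) : W.Modules :=
  (Scheme.Modules.pullback jZ).obj (tT P iZ p)

/-- The class of a tuple at a point. -/
def xiFun (p : ℕ) (w : W) (n : Fin p → S.E.presheaf.stalk w) : (wT S P p).presheaf.stalk w :=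
  pullStalk jZ (tT P iZ p) w ((hc w).some.existsUnique_xi n).choose

variable {S P hc}

theorem xiFun_of_isXi {p : ℕ} {w : W} {n : Fin p → S.E.presheaf.stalk w} {t : (tT P iZ p).presheaf.stalk (jZ.base w)}
    (h : IsXi S P w n t) : pullStalk jZ (tT P iZ p) w t = xiFun S P hc p w n :=
  congrArg _ (((hc w).some.existsUnique_xi n).choose_spec.2 t h)

/-- The class of a wedge, on the intersection. -/
abbrev Chart.wcl {w : W} (C : Chart S P w) (p : ℕ)
    (x : ↥(⋀[X.presheaf.stalk (pt iZ jZ w)]^p (Fin C.T.e → X.presheaf.stalk (pt iZ jZ w)))) :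
    (wT S P p).presheaf.stalk w :=
  pullStalk jZ (tT P iZ p) w (C.cl p x)

theorem Chart.wcl_smul {w : W} (C : Chart S P w) (p : ℕ) (r : X.presheaf.stalk (pt iZ jZ w)) (x) :
    C.wcl p (r • x) = S.ρW w r • C.wcl p x := by
  rw [Chart.wcl, C.cl_smul, pullStalk_smul, S.ρW_eq_Z, stAt_rfl]

theorem xiFun_eq {p : ℕ} {w : W} (C : Chart S P w) {n : Fin p → S.E.presheaf.stalk w}
    (v : Fin p → Fin C.T.e → X.presheaf.stalk (pt iZ jZ w)) (hv : ∀ j, C.vec (v j) = n j) :
    xiFun S P hc p w n = C.wcl p (ιMulti _ p v) :=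
  (xiFun_of_isXi ((C.isXi_iff v hv _).2 rfl)).symm

variable (S P hc)

/-- The class of a tuple at a point, as an alternating map. -/
def xi (p : ℕ) (w : W) : S.E.presheaf.stalk w [⋀^Fin p]→ₗ[W.presheaf.stalk w] (wT S P p).presheaf.stalk w where
  toFun n := xiFun S P hc p w n
  map_update_add' := by
    intro _ n j a b
    obtain ⟨C⟩ := hc w
    choose v hv using fun k => C.vec_surjective (n k)
    obtain ⟨va, rfl⟩ := C.vec_surjective a
    obtain ⟨vb, rfl⟩ := C.vec_surjective b
    rw [← C.vec_add]
    have key : ∀ u, ∀ k, C.vec (Function.update v j u k) = Function.update n j (C.vec u) k := fun u k => by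
      by_cases hk : k = j
      · subst hk; rw [Function.update_self, Function.update_self]
      · rw [Function.update_of_ne hk, Function.update_of_ne hk, hv]
    rw [xiFun_eq C _ (key (va + vb)), xiFun_eq C _ (key va), xiFun_eq C _ (key vb), AlternatingMap.map_update_add,
      Chart.wcl, C.cl_add, map_add]
  map_update_smul' := by
    intro _ n j r a
    obtain ⟨C⟩ := hc w
    choose v hv using fun k => C.vec_surjective (n k)
    obtain ⟨va, rfl⟩ := C.vec_surjective a
    obtain ⟨r, rfl⟩ := stAt_surjective (jY ≫ iY) w (S.hW w) r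
    rw [← C.vec_smul]
    have key : ∀ u, ∀ k, C.vec (Function.update v j u k) = Function.update n j (C.vec u) k := fun u k => by
      by_cases hk : k = j
      · subst hk; rw [Function.update_self, Function.update_self]
      · rw [Function.update_of_ne hk, Function.update_of_ne hk, hv]
    rw [xiFun_eq C _ (key (r • va)), xiFun_eq C _ (key va), AlternatingMap.map_update_smul, C.wcl_smul]
  map_eq_zero_of_eq' := by
    intro n a b hab hne
    obtain ⟨C⟩ := hc w
    let v := fun k => (C.vec_surjective (n k)).choose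
    rw [xiFun_eq C v fun k => (C.vec_surjective (n k)).choose_spec,
      AlternatingMap.map_eq_zero_of_eq _ v (by simp only [v]; rw [hab]) hne]
    rw [show (0 : ↥(⋀[X.presheaf.stalk (pt iZ jZ w)]^p (Fin C.T.e → X.presheaf.stalk (pt iZ jZ w)))) = (0 : X.presheaf.stalk (pt iZ jZ w)) • 0 from (zero_smul _ _).symm,
      C.wcl_smul, map_zero, zero_smul]

variable {S P hc}

theorem exists_secXi {p : ℕ} {V : W.Opens} (ν : Fin p → Γ(S.E, V)) :
    ∃ s : Γ(wT S P p, V), ∀ (w : W) (hw : w ∈ V),
      (wT S P p).presheaf.germ V w hw s = xi S P hc p w fun j => S.E.presheaf.germ V w hw (ν j) :=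
  exists_section_of_local _ V _ fun w hw => by
    obtain ⟨C⟩ := hc w
    obtain ⟨V', hV', hle, σ, hσ⟩ := exists_xi_sect C ν hw
    refine ⟨V', hV', hle, σ, fun w' hw' => ?_⟩
    obtain ⟨t, ht, e⟩ := hσ w' hw'
    exact e.trans (xiFun_of_isXi (hc := hc) ht)

variable (S P hc)

/-- The class of a tuple of sections. -/
def xiSec (p : ℕ) (V : W.Opens) : Γ(S.E, V) [⋀^Fin p]→ₗ[Γ(W, V)] Γ(wT S P p, V) where
  toFun ν := (exists_secXi (S := S) (P := P) (hc := hc) ν).choose
  map_update_add' := by
    intro _ ν j a b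
    refine section_ext _ _ _ fun y hy => ?_
    rw [map_add, (exists_secXi _).choose_spec, (exists_secXi _).choose_spec, (exists_secXi _).choose_spec]
    have e : ∀ u, (fun k => S.E.presheaf.germ V y hy (Function.update ν j u k)) =
        Function.update (fun k => S.E.presheaf.germ V y hy (ν k)) j (S.E.presheaf.germ V y hy u) := fun u =>
      funext fun k => Function.apply_update (fun _ => S.E.presheaf.germ V y hy) ν j u k
    simp only [e, map_add]
    exact (xi S P hc p y).map_update_add _ j _ _
  map_update_smul' := by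
    intro _ ν j r a
    refine section_ext _ _ _ fun y hy => ?_
    rw [Mero.germ_smul, (exists_secXi _).choose_spec, (exists_secXi _).choose_spec]
    have e : ∀ u, (fun k => S.E.presheaf.germ V y hy (Function.update ν j u k)) =
        Function.update (fun k => S.E.presheaf.germ V y hy (ν k)) j (S.E.presheaf.germ V y hy u) := fun u =>
      funext fun k => Function.apply_update (fun _ => S.E.presheaf.germ V y hy) ν j u k
    simp only [e]
    rw [Mero.germ_smul]
    exact (xi S P hc p y).map_update_smul _ j _ _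
  map_eq_zero_of_eq' := by
    intro ν a b hab hne
    refine section_ext _ _ _ fun y hy => ?_
    rw [map_zero, (exists_secXi _).choose_spec]
    exact (xi S P hc p y).map_eq_zero_of_eq _ (congrArg _ hab) hne

variable {S P hc}

theorem germ_xiSec {p : ℕ} {V : W.Opens} (ν : Fin p → Γ(S.E, V)) (y : W) (hy : y ∈ V) :
    (wT S P p).presheaf.germ V y hy (xiSec S P hc p V ν) = xi S P hc p y fun j => S.E.presheaf.germ V y hy (ν j) :=
  (exists_secXi ν).choose_spec y hy

/-- The ideal of the intersection kills the Tor sheaves. -/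
theorem smul_tT_eq_zero {w : W} (C : Chart S P w) (p : ℕ) (r : Z.presheaf.stalk (jZ.base w))
    (hr : (jZ.stalkMap w).hom r = 0) (t : (tT P iZ p).presheaf.stalk (jZ.base w)) : r • t = 0 := by
  obtain ⟨r, rfl⟩ := stalkMap_surj iZ (jZ.base w) r
  obtain ⟨x, rfl⟩ := C.cl_surjective p t
  rw [← C.cl_smul, C.cl_eq_zero_iff]
  refine Submodule.smul_mem_smul ((S.mem_K_iff w r).2 ?_) trivial
  rw [S.ρW_eq_Z, stAt_rfl]
  exact hr

/-- The Tor sheaves are supported on the intersection. -/
theorem killed_tT (S : Sq iY iZ jY jZ) (P : Reso iY) (hc : ∀ w, Nonempty (Chart S P w)) (p : ℕ) :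
    Killed jZ (tT P iZ p) := by
  refine ⟨fun w r hr t => smul_tT_eq_zero (hc w).some p r hr t, fun z hz => ?_⟩
  haveI : Subsingleton ((O' iY).presheaf.stalk (iZ.base z)) :=
    (killed_push iY (Coh.structureModule Y)).subsingleton _ fun ⟨y, hy⟩ => hz (S.surj y z hy)
  let R := resAt P (iZ.base z)
  haveI := R.flat
  refine subsingleton_of_forall_eq 0 fun t => ?_
  obtain ⟨a, ha, hat⟩ := exists_trep t
  refine hat.eq_zero_iff.2 ?_
  have hsurj : Function.Surjective (R.d 0) := fun k => R.exact₀ k (Subsingleton.elim _ _)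
  cases p with
  | zero =>
    obtain ⟨b, hb⟩ := hsurj a
    rw [← hb]
    exact R.d_mem_Bb _ 0 b
  | succ p => exact Res.exact_mod (idI iZ z) (C := fun n => R.K n) R.d R.flat R.dd R.exact hsurj p a ha

set_option maxHeartbeats 4000000 in
/-- **`T_p` restricted to the intersection is `⋀^p E`.** -/
theorem nonempty_iso (hc : ∀ w, Nonempty (Chart S P w)) {p : ℕ} {L : W.Modules} (hL : ExtPow.IsExtPow p S.E L) :
    Nonempty (L ≅ wT S P p) := by
  obtain ⟨φ₀, hφ₀⟩ := hL
  let φ : ∀ U : W.affineOpens, Γ(L, U.1) ≃ₗ[Γ(W, U.1)] ↥(⋀[Γ(W, U.1)]^p Γ(S.E, U.1)) := fun U => φ₀ U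
  have hφ : ∀ (U V : W.affineOpens) (h : V.1 ≤ U.1) (e : Fin p → Γ(S.E, U.1)),
      L.presheaf.map (homOfLE h).op ((φ U).symm (ιMulti _ p e)) =
        (φ V).symm (ιMulti _ p fun j => S.E.presheaf.map (homOfLE h).op (e j)) := hφ₀
  obtain ⟨θ, hθ⟩ := exists_hom_of_compat φ hφ (fun U => exteriorPower.alternatingMapLinearEquiv (xiSec S P hc p U.1))
    fun U V h e => by
      simp only [exteriorPower.alternatingMapLinearEquiv_apply_ιMulti]
      refine section_ext _ _ _ fun y hy => ?_
      rw [germ_map, germ_xiSec, germ_xiSec]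
      exact congrArg _ (funext fun j => germ_map S.E h y hy (e j))
  have hval : ∀ (U : W.affineOpens) (e : Fin p → Γ(S.E, U.1)) (y : W) (hy : y ∈ U.1),
      stalkLin θ y (L.presheaf.germ U.1 y hy ((φ U).symm (ιMulti _ p e))) =
        xi S P hc p y fun j => S.E.presheaf.germ U.1 y hy (e j) := by
    intro U e y hy
    rw [stalkLin_germ, hθ, LinearEquiv.apply_symm_apply, exteriorPower.alternatingMapLinearEquiv_apply_ιMulti,
      germ_xiSec]
  haveI : IsIso θ := by
    refine Groth.Agent.H16Derived.KFlat.Stalk.isIso_of_stalk _ fun y => (ConcreteCategory.isIso_iff_bijective _).2 ?_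
    show Function.Bijective (stalkLin θ y)
    obtain ⟨C⟩ := hc y
    let A := X.presheaf.stalk (pt iZ jZ y)
    let b := Pi.basisFun A (Fin C.T.e)
    choose Ug hUg gs hgs using fun k => S.E.presheaf.exists_germ_eq (C.vec (b k))
    obtain ⟨W0, hW, hyW, hWg⟩ := exists_isAffineOpen_mem_and_subset (X := W) (x := y)
      (U := ⟨⋂ k, (Ug k : Set W), isOpen_iInter_of_finite fun k => (Ug k).isOpen⟩) (Set.mem_iInter.2 hUg)
    have hWk : ∀ k, W0 ≤ Ug k := fun k z hz => Set.mem_iInter.1 (hWg hz) k
    let g : Fin C.T.e → Γ(S.E, W0) := fun k => S.E.presheaf.map (homOfLE (hWk k)).op (gs k)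
    have hg : ∀ k, S.E.presheaf.germ W0 y hyW (g k) = C.vec (b k) := fun k => by
      simp only [g]
      rw [germ_map]
      exact hgs k
    let lam : Set.powersetCard (Fin C.T.e) p → L.presheaf.stalk y := fun s =>
      L.presheaf.germ W0 y hyW ((φ ⟨W0, hW⟩).symm (exteriorPower.ιMulti_family Γ(W, W0) p g s))
    have hlam : ∀ s, stalkLin θ y (lam s) = C.wcl p (b.exteriorPower p s) := fun s => by
      rw [exteriorPower.basis_apply]
      simp only [lam, exteriorPower.ιMulti_family]
      rw [hval ⟨W0, hW⟩]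
      exact xiFun_eq (hc := hc) C _ fun j => (hg _).symm
    have hcl : ∀ b' : Set.powersetCard (Fin C.T.e) p → A, C.wcl p (∑ s, b' s • b.exteriorPower p s) =
        stalkLin θ y (∑ s, S.ρW y (b' s) • lam s) := fun b' => by
      let clh : ↥(⋀[A]^p (Fin C.T.e → A)) →+ (wT S P p).presheaf.stalk y :=
        AddMonoidHom.mk' (C.wcl p) fun x x' => (congrArg _ (C.cl_add p x x')).trans (map_add _ _ _)
      rw [show C.wcl p (∑ s, b' s • b.exteriorPower p s) = ∑ s, C.wcl p (b' s • b.exteriorPower p s) from
        map_sum clh _ _, map_sum]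
      refine Finset.sum_congr rfl fun s _ => ?_
      rw [map_smul, hlam, C.wcl_smul]
    have hspan : ∀ l : L.presheaf.stalk y, l ∈ Submodule.span (W.presheaf.stalk y) (Set.range lam) := by
      intro l
      obtain ⟨W1, hy1, l, rfl⟩ := L.presheaf.exists_germ_eq l
      obtain ⟨W2, hW2, hy2, hle2⟩ := exists_isAffineOpen_mem_and_subset (X := W) (x := y) (U := W1 ⊓ W0) ⟨hy1, hyW⟩
      rw [← germ_map L (fun z hz => (hle2 hz).1 : W2 ≤ W1) y hy2 l]
      obtain ⟨w, hw⟩ := (φ ⟨W2, hW2⟩).symm.surjective (L.presheaf.map (homOfLE (fun z hz => (hle2 hz).1 : W2 ≤ W1)).op l)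
      rw [← hw]
      clear hw
      induction w using H22Alg.ExtPowAlg.induction with
      | hgen e =>
        -- the entries are combinations of the chosen sections near `y`
        have hcomb : ∀ j, ∃ a : Fin C.T.e → W.presheaf.stalk y,
            S.E.presheaf.germ W2 y hy2 (e j) =
              ∑ k, a k • S.E.presheaf.germ W0 y hyW (g k) := fun j => by
          obtain ⟨v, hv⟩ := C.vec_surjective (S.E.presheaf.germ W2 y hy2 (e j))
          refine ⟨fun k => (S.ρW y) (v k), ?_⟩
          let vh : (Fin C.T.e → A) →+ S.E.presheaf.stalk y := AddMonoidHom.mk' C.vec C.vec_add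
          have hv' : v = ∑ k, v k • b k := by
            funext k
            simp [b, Pi.basisFun_apply, Finset.sum_apply, Pi.single_apply]
          rw [← hv]
          show vh v = _
          conv_lhs => rw [hv', map_sum]
          refine Finset.sum_congr rfl fun k _ => ?_
          show C.vec (v k • b k) = _
          rw [C.vec_smul, hg]
        choose a ha using hcomb
        choose Wa hWa as has using fun j k => W.presheaf.exists_germ_eq (a j k)
        obtain ⟨W3, hy3, hW32, hW3a⟩ : ∃ W3 : W.Opens, y ∈ W3 ∧ W3 ≤ W2 ∧ ∀ j k, W3 ≤ Wa j k :=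
          ⟨W2 ⊓ ⟨⋂ j, ⋂ k, (Wa j k : Set W), isOpen_iInter_of_finite fun j => isOpen_iInter_of_finite fun k => (Wa j k).isOpen⟩,
            ⟨hy2, Set.mem_iInter.2 fun j => Set.mem_iInter.2 (hWa j)⟩, inf_le_left,
            fun j k z hz => Set.mem_iInter.1 (Set.mem_iInter.1 hz.2 j) k⟩
        have h3W : W3 ≤ W0 := fun z hz => (hle2 (hW32 hz)).2
        let as3 : Fin p → Fin C.T.e → Γ(W, W3) := fun j k => W.presheaf.map (homOfLE (hW3a j k)).op (as j k)
        let e3 : Fin p → Γ(S.E, W3) := fun j =>
          S.E.presheaf.map (homOfLE hW32).op (e j) -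
            ∑ k, as3 j k • S.E.presheaf.map (homOfLE h3W).op (g k)
        obtain ⟨W4, hy4, hW43, h4⟩ := H17.FLI.exists_nhds_germ_zero (S.E) hy3
          (α := ULift.{u} (Fin p)) (fun j => e3 j.down) fun j => by
            simp only [e3]
            rw [map_sub, germ_map, ha, map_sum, sub_eq_zero]
            refine Finset.sum_congr rfl fun k _ => ?_
            rw [Mero.germ_smul]
            simp only [as3, g, germ_map, TopCat.Presheaf.germ_res_apply, has]
        obtain ⟨W5, hW5, hy5, hle5⟩ := exists_isAffineOpen_mem_and_subset (X := W) (x := y) (U := W4) hy4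
        have h52 : W5 ≤ W2 := fun z hz => hW32 (hW43 (hle5 hz))
        have h5W : W5 ≤ W0 := fun z hz => h3W (hW43 (hle5 hz))
        let g5 : Fin C.T.e → Γ(S.E, W5) := fun k => S.E.presheaf.map (homOfLE h5W).op (g k)
        let A5 : Fin p → Fin C.T.e → Γ(W, W5) := fun j k =>
          W.presheaf.map (homOfLE (fun z hz => hW3a j k (hW43 (hle5 hz)) : W5 ≤ Wa j k)).op (as j k)
        have he5 : (fun j => S.E.presheaf.map (homOfLE h52).op (e j)) =
            fun j => Fintype.linearCombination Γ(W, W5) g5 (A5 j) := by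
          funext j
          refine section_ext _ _ _ fun z hz => ?_
          have h := h4 ⟨j⟩ z (hle5 hz)
          simp only [e3] at h
          rw [map_sub, sub_eq_zero, germ_map, map_sum] at h
          rw [germ_map, h, Fintype.linearCombination_apply, map_sum]
          refine Finset.sum_congr rfl fun k _ => ?_
          rw [Mero.germ_smul, Mero.germ_smul]
          simp only [as3, A5, g5, g, germ_map, TopCat.Presheaf.germ_res_apply]
        rw [← germ_map L h52 y hy5, hφ ⟨W2, hW2⟩ ⟨W5, hW5⟩ h52 e, he5]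
        have hmap : ιMulti Γ(W, W5) p (fun j => Fintype.linearCombination Γ(W, W5) g5 (A5 j)) =
            exteriorPower.map p (Fintype.linearCombination Γ(W, W5) g5) (ιMulti Γ(W, W5) p A5) :=
          (exteriorPower.map_apply_ιMulti _ _).symm
        rw [hmap, ← ((Pi.basisFun Γ(W, W5) (Fin C.T.e)).exteriorPower p).sum_repr (ιMulti Γ(W, W5) p A5),
          map_sum, map_sum, map_sum]
        refine Submodule.sum_mem _ fun s _ => ?_
        rw [map_smul, map_smul, Mero.germ_smul, exteriorPower.basis_apply, exteriorPower.map_apply_ιMulti_family]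
        refine Submodule.smul_mem _ _ (Submodule.subset_span ⟨s, ?_⟩)
        have hg5 : (fun j => S.E.presheaf.map (homOfLE h5W).op
            (g (Set.powersetCard.ofFinEmbEquiv.symm s j))) =
              (Fintype.linearCombination Γ(W, W5) g5 ∘ Pi.basisFun Γ(W, W5) (Fin C.T.e)) ∘
                Set.powersetCard.ofFinEmbEquiv.symm s := funext fun j => by simp [g5, Pi.basisFun_apply]
        simp only [lam, exteriorPower.ιMulti_family]
        rw [← germ_map L h5W y hy5, hφ ⟨W0, hW⟩ ⟨W5, hW5⟩ h5W]
        exact congrArg (fun w => L.presheaf.germ W5 y hy5 ((φ ⟨W5, hW5⟩).symm (ιMulti Γ(W, W5) p w))) hg5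
      | h0 => simp only [map_zero]; exact Submodule.zero_mem _
      | hadd u v hu hv => simp only [map_add]; exact Submodule.add_mem _ hu hv
      | hsmul r u hu => rw [map_smul, Mero.germ_smul]; exact Submodule.smul_mem _ _ hu
    constructor
    · refine (injective_iff_map_eq_zero _).2 fun l hl => ?_
      obtain ⟨b', hb'⟩ := (Submodule.mem_span_range_iff_exists_fun _).1 (hspan l)
      choose b'' hb'' using fun s => stAt_surjective (jY ≫ iY) y (S.hW y) (b' s)
      have h := hcl b''
      simp only [hb'', hb', hl] at h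
      have h0 : C.cl p (∑ s, b'' s • b.exteriorPower p s) = 0 :=
        (ProjFormula.pullStalk_bijective_of_killed jZ (killed_tT S P hc p) y).1 (h.trans (map_zero _).symm)
      rw [C.cl_eq_zero_iff] at h0
      rw [← hb']
      refine Finset.sum_eq_zero fun s _ => ?_
      have hcK : b'' s ∈ Is (jY ≫ iY).ker (pt iZ jZ y) := by
        have hs := Res.map_smul_top _ ((b.exteriorPower p).coord s) h0
        rw [smul_eq_mul, Ideal.mul_top] at hs
        simp only [map_sum, map_smul, Module.Basis.coord_apply, Module.Basis.repr_self, smul_eq_mul,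
          Finsupp.single_apply, mul_ite, mul_one, mul_zero, Finset.sum_ite_eq', Finset.mem_univ, if_true] at hs
        exact hs
      rw [← hb'', show stAt (jY ≫ iY) y (S.hW y) (b'' s) = 0 from (S.mem_K_iff y _).1 hcK, zero_smul]
    · intro t
      obtain ⟨t, rfl⟩ := pullStalk_surjective (i := jZ) (tT P iZ p) y t
      obtain ⟨x, rfl⟩ := C.cl_surjective p t
      exact ⟨∑ s, S.ρW y ((b.exteriorPower p).repr x s) • lam s, by
        rw [← hcl, (b.exteriorPower p).sum_repr]⟩
  exact ⟨asIso θ⟩

/-- **`T_p ≅ jZ_* ⋀^p E`.** -/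
theorem nonempty_tT_iso (hc : ∀ w, Nonempty (Chart S P w)) {p : ℕ} {L : W.Modules} (hL : ExtPow.IsExtPow p S.E L) :
    Nonempty (tT P iZ p ≅ (push jZ).obj L) := by
  obtain ⟨e⟩ := nonempty_iso hc hL
  haveI := isIso_unit_of_killed jZ (killed_tT S P hc p)
  exact ⟨asIso ((adj jZ).unit.app (tT P iZ p)) ≪≫ (push jZ).mapIso e.symm⟩

end Groth.Agent.H16Derived.TorExcess
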