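import Groth.Agent.H22Alg.Koszul
import Mathlib

/-!
# The Koszul complex of a sum of two forms, compared with that of the first modulo the second ideal
-/

set_option autoImplicit false
set_option linter.style.haveILetI false
set_option linter.unusedSectionVars false

universe u v w

open ExteriorAlgebra
open Groth.Agent.H17.KoszSh

noncomputable section

namespace Groth.Agent.H16Derived.TorExcess

variable {A : Type u} [CommRing A] {M : Type v} [AddCommGroup M] [Module A M] {M' : Type w} [AddCommGroup M'] [Module A M']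

theorem map_deg (f : M →ₗ[A] M') (W : Submodule A M) (p : ℕ) :
    (deg W p).map (ExteriorAlgebra.map f).toLinearMap = deg (W.map f) p := by
  rw [deg, deg, Submodule.map_pow, ← Submodule.map_comp, ← Submodule.map_comp]
  refine congrArg (fun l : M →ₗ[A] ExteriorAlgebra A M' => (W.map l) ^ p) (LinearMap.ext fun m => ?_)
  exact ExteriorAlgebra.map_apply_ι f m

theorem map_mem_deg (f : M →ₗ[A] M') {W : Submodule A M} {p : ℕ} {x : ExteriorAlgebra A M} (hx : x ∈ deg W p) :
    ExteriorAlgebra.map f x ∈ deg (W.map f) p := by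
  rw [← map_deg]
  exact Submodule.mem_map_of_mem hx

theorem deg_le {W W' : Submodule A M} (h : W ≤ W') (p : ℕ) : deg W p ≤ deg W' p :=
  pow_le_pow_left' (Submodule.map_mono h) p

theorem map_mem_deg_top (f : M →ₗ[A] M') {W : Submodule A M} {p : ℕ} {x : ExteriorAlgebra A M} (hx : x ∈ deg W p) :
    ExteriorAlgebra.map f x ∈ deg (⊤ : Submodule A M') p :=
  deg_le le_top p (map_mem_deg f hx)

theorem contract_map (f : M →ₗ[A] M') (φ : M' →ₗ[A] A) : ∀ {p : ℕ} {x : ExteriorAlgebra A M},
    x ∈ deg (⊤ : Submodule A M) p → contract φ (ExteriorAlgebra.map f x) = ExteriorAlgebra.map f (contract (φ.comp f) x) := by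
  intro p
  induction p with
  | zero =>
    intro x hx
    obtain ⟨r, rfl⟩ := mem_deg_zero_iff.1 hx
    rw [AlgHom.commutes, contract_algebraMap, contract_algebraMap, map_zero]
  | succ p ih =>
    intro x hx
    refine deg_succ_induction ?_ ?_ hx
    · intro w _ y hy
      rw [map_mul, ExteriorAlgebra.map_apply_ι, contract_ι_mul, contract_ι_mul, ih hy, map_sub, map_smul, map_mul,
        ExteriorAlgebra.map_apply_ι, LinearMap.comp_apply]
    · intro a b ha hb
      simp only [map_add, ha, hb]

/-- Linear maps preserve multiples of the ideal. -/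
theorem map_smul_le (J : Ideal A) {E : Type*} [AddCommGroup E] [Module A E] {E' : Type*} [AddCommGroup E'] [Module A E']
    (f : E →ₗ[A] E') {D : Submodule A E} {D' : Submodule A E'} (h : ∀ x ∈ D, f x ∈ D') {x : E} (hx : x ∈ J • D) :
    f x ∈ J • D' := by
  refine Submodule.smul_induction_on hx (fun a ha n hn => ?_) fun a b ha hb => by rw [map_add]; exact add_mem ha hb
  rw [map_smul]
  exact Submodule.smul_mem_smul ha (h n hn)

theorem contract_mem_smul (J : Ideal A) (φ : M →ₗ[A] A) (hφ : ∀ m, φ m ∈ J) {W : Submodule A M} :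
    ∀ {p : ℕ} {x : ExteriorAlgebra A M}, x ∈ deg W (p + 1) → contract φ x ∈ J • deg W p := by
  intro p
  induction p with
  | zero =>
    intro x hx
    refine deg_succ_induction ?_ ?_ hx
    · intro w _ y hy
      obtain ⟨r, rfl⟩ := mem_deg_zero_iff.1 hy
      rw [contract_ι_mul, contract_algebraMap, mul_zero, sub_zero]
      exact Submodule.smul_mem_smul (hφ w) hy
    · intro a b ha hb
      rw [map_add]
      exact add_mem ha hb
  | succ p ih =>
    intro x hx
    refine deg_succ_induction ?_ ?_ hx
    · intro w hw y hy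
      rw [contract_ι_mul]
      exact sub_mem (Submodule.smul_mem_smul (hφ w) hy)
        (map_smul_le J (LinearMap.mulLeft A (ι A w)) (fun z hz => ι_mul_mem_deg hw hz) (ih hy))
    · intro a b ha hb
      rw [map_add]
      exact add_mem ha hb

theorem contract_add (φ φ' : M →ₗ[A] A) (x : ExteriorAlgebra A M) :
    contract (φ + φ') x = contract φ x + contract φ' x := by
  simp [contract, map_add]

section Sum

variable {a : ℕ} {N : Type u} [AddCommGroup N] [Module A N] (g : (Fin a → A) →ₗ[A] A) (h : N →ₗ[A] A)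

/-- The sum of the two forms. -/
abbrev Gsum : ((Fin a → A) × N) →ₗ[A] A := LinearMap.coprod g h

/-- The projection to the first factor. -/
abbrev pr1 : ExteriorAlgebra A ((Fin a → A) × N) →ₐ[A] ExteriorAlgebra A (Fin a → A) :=
  ExteriorAlgebra.map (LinearMap.fst A (Fin a → A) N)

theorem contract_comm (J : Ideal A) (hh : ∀ n, h n ∈ J) {p : ℕ} {x : ExteriorAlgebra A ((Fin a → A) × N)}
    (hx : x ∈ deg (⊤ : Submodule A ((Fin a → A) × N)) (p + 1)) :
    pr1 (contract (Gsum g h) x) - contract g (pr1 x) ∈ J • deg (⊤ : Submodule A (Fin a → A)) p := by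
  have e : Gsum g h = g.comp (LinearMap.fst A (Fin a → A) N) + h.comp (LinearMap.snd A (Fin a → A) N) :=
    LinearMap.ext fun m => rfl
  rw [e, contract_add, map_add, contract_map _ g hx, add_sub_cancel_left]
  exact map_smul_le J (pr1 : ExteriorAlgebra A ((Fin a → A) × N) →ₐ[A] _).toLinearMap
    (fun z hz => map_mem_deg_top _ hz) (contract_mem_smul J _ (fun m => hh m.2) hx)

/-- The form `h` resolves the quotient by `J`. -/
structure Resolves (J : Ideal A) : Prop where
  mem : ∀ n, h n ∈ J
  surj : ∀ r ∈ J, ∃ n, h n = r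
  exact : ∀ (p : ℕ) (y : ExteriorAlgebra A N), y ∈ deg (⊤ : Submodule A N) (p + 1) → contract h y = 0 →
    ∃ z ∈ deg (⊤ : Submodule A N) (p + 2), contract h z = y

/-- The filtration of the source. -/
def filt (j : ℕ) : Submodule A ((Fin a → A) × N) :=
  Submodule.span A ((fun i => ((Pi.basisFun A (Fin a) i, 0) : (Fin a → A) × N)) '' {i : Fin a | (i : ℕ) < j}) ⊔
    LinearMap.range (LinearMap.inr A (Fin a → A) N)

theorem filt_succ (j : Fin a) :
    filt (A := A) (a := a) (N := N) (j + 1) =
      filt (A := A) (a := a) (N := N) j ⊔ Submodule.span A {((Pi.basisFun A (Fin a) j, 0) : (Fin a → A) × N)} := by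
  have h' : {i : Fin a | (i : ℕ) < j + 1} = insert j {i : Fin a | (i : ℕ) < j} := by
    ext i
    simp only [Set.mem_ofPred_eq, Set.mem_insert_iff, Fin.ext_iff]
    omega
  rw [filt, filt, h', Set.image_insert_eq, Submodule.span_insert]
  ac_rfl

theorem filt_top : filt (A := A) (a := a) (N := N) a = ⊤ := by
  rw [eq_top_iff]
  rintro ⟨v, n⟩ -
  have e : ((v, n) : (Fin a → A) × N) = (∑ i, v i • ((Pi.basisFun A (Fin a) i, 0) : (Fin a → A) × N)) + (0, n) := by
    refine Prod.ext ?_ (by simp [Prod.snd_sum])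
    simp [Prod.fst_sum, Pi.basisFun_apply, Finset.univ_sum_single, ← Pi.single_smul]
  rw [e]
  exact Submodule.add_mem_sup (Submodule.sum_mem _ fun i _ => Submodule.smul_mem _ _
    (Submodule.subset_span ⟨i, i.2, rfl⟩)) ⟨n, rfl⟩

variable {g h} {J : Ideal A}

/-- The kernel of the projection modulo `J` is acyclic. -/
theorem kernel_exact_filt (hR : Resolves h J) : ∀ (j : ℕ), j ≤ a → ∀ (p : ℕ) (ζ : ExteriorAlgebra A ((Fin a → A) × N)),
    ζ ∈ deg (filt j) p → contract (Gsum g h) ζ = 0 → pr1 ζ ∈ J • deg (⊤ : Submodule A (Fin a → A)) p →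
    ∃ η ∈ deg (filt j) (p + 1), contract (Gsum g h) η = ζ ∧ pr1 η ∈ J • deg (⊤ : Submodule A (Fin a → A)) (p + 1) := by
  intro j hj
  -- degree zero
  have h0 : ∀ (j : ℕ) (ζ : ExteriorAlgebra A ((Fin a → A) × N)),
    ζ ∈ deg (filt j) 0 → pr1 ζ ∈ J • deg (⊤ : Submodule A (Fin a → A)) 0 →
    ∃ η ∈ deg (filt j) 1, contract (Gsum g h) η = ζ ∧ pr1 η ∈ J • deg (⊤ : Submodule A (Fin a → A)) 1 := by
    intro j ζ hζ hπ
    obtain ⟨r, rfl⟩ := mem_deg_zero_iff.1 hζ
    have hr : r ∈ J := by
      have h1 := map_smul_le J (ExteriorAlgebra.algebraMapInv (R := A) (M := Fin a → A)).toLinearMap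
        (D' := (⊤ : Submodule A A)) (fun _ _ => trivial) hπ
      rw [smul_eq_mul, Ideal.mul_top, AlgHom.toLinearMap_apply, AlgHom.commutes, AlgHom.commutes] at h1
      exact h1
    obtain ⟨n, hn⟩ := hR.surj r hr
    refine ⟨ι A ((0, n) : (Fin a → A) × N) * algebraMap A _ 1,
      ι_mul_mem_deg (show ((0, n) : (Fin a → A) × N) ∈ filt j from Submodule.mem_sup_right ⟨n, rfl⟩) (mem_deg_zero_iff.2 ⟨1, rfl⟩), ?_, ?_⟩
    · rw [contract_ι_mul, contract_algebraMap, mul_zero, sub_zero, Algebra.smul_def, map_one, mul_one]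
      simp [hn]
    · rw [map_mul, ExteriorAlgebra.map_apply_ι]
      simp
  induction j with
  | zero =>
    intro p ζ hζ hd hπ
    cases p with
    | zero => exact h0 0 ζ hζ hπ
    | succ p =>
      have hW : filt (A := A) (a := a) (N := N) 0 = (⊤ : Submodule A N).map (LinearMap.inr A (Fin a → A) N) := by
        rw [Submodule.map_top, filt]
        simp
      rw [hW, ← map_deg] at hζ
      obtain ⟨y, hy, rfl⟩ := hζ
      rw [AlgHom.toLinearMap_apply] at hd hπ ⊢
      have hinj : ∀ z : ExteriorAlgebra A N, ExteriorAlgebra.map (LinearMap.inr A (Fin a → A) N) z = 0 → z = 0 := by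
        intro z hz
        have h2 := congrArg (ExteriorAlgebra.map (LinearMap.snd A (Fin a → A) N)) hz
        rwa [map_zero, ← AlgHom.comp_apply, ExteriorAlgebra.map_comp_map, LinearMap.snd_comp_inr,
          ExteriorAlgebra.map_id, AlgHom.id_apply] at h2
      have hG : (Gsum g h).comp (LinearMap.inr A (Fin a → A) N) = h := LinearMap.coprod_inr _ _
      rw [contract_map _ _ hy, hG] at hd
      obtain ⟨z, hz, hzy⟩ := hR.exact p y hy (hinj _ hd)
      refine ⟨ExteriorAlgebra.map (LinearMap.inr A (Fin a → A) N) z, ?_, ?_, ?_⟩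
      · rw [hW, ← map_deg]; exact Submodule.mem_map_of_mem hz
      · rw [contract_map _ _ hz, hG, hzy]
      · have hzero : pr1 (ExteriorAlgebra.map (LinearMap.inr A (Fin a → A) N) z) = 0 := by
          rw [← AlgHom.comp_apply, ExteriorAlgebra.map_comp_map, LinearMap.fst_comp_inr]
          refine deg_succ_induction (P := fun z => ExteriorAlgebra.map (0 : N →ₗ[A] (Fin a → A)) z = 0) ?_ ?_ hz
          · intro w _ y _
            simp
          · intro s t hs ht
            rw [map_add, hs, ht, add_zero]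
        rw [hzero]
        exact zero_mem _
  | succ j ih =>
    intro p ζ hζ hd hπ
    cases p with
    | zero => exact h0 (j + 1) ζ hζ hπ
    | succ p =>
      let k : Fin a := ⟨j, hj⟩
      let e : (Fin a → A) × N := (Pi.basisFun A (Fin a) k, 0)
      have hs : filt (A := A) (a := a) (N := N) (j + 1) = filt j ⊔ Submodule.span A {e} := filt_succ k
      rw [hs] at hζ
      obtain ⟨x, hx, c, hc, rfl⟩ := exists_decomp _ e hζ
      let ψ0 : (Fin a → A) →ₗ[A] A := LinearMap.proj k
      let ψ : ((Fin a → A) × N) →ₗ[A] A := ψ0.comp (LinearMap.fst A (Fin a → A) N)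
      have hψe : ψ e = 1 := by simp [ψ, ψ0, e, Pi.basisFun_apply]
      have hψW : ∀ w ∈ filt (A := A) (a := a) (N := N) j, ψ w = 0 := by
        intro w hw
        have hle : filt (A := A) (a := a) (N := N) j ≤ LinearMap.ker ψ := by
          refine sup_le (Submodule.span_le.2 ?_) ?_
          · rintro _ ⟨i, hi, rfl⟩
            have hne : i ≠ k := fun e => by subst e; exact lt_irrefl j hi
            simp [ψ, ψ0, Pi.basisFun_apply, Ne.symm hne]
          · rintro _ ⟨n, rfl⟩
            simp [ψ, ψ0]
        exact hle hw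
      have hdec : ∀ {q : ℕ} {y z : ExteriorAlgebra A ((Fin a → A) × N)}, y ∈ deg (filt j) (q + 1) → z ∈ deg (filt j) q →
          contract ψ (y + ι A e * z) = z := fun hy hz => by
        rw [map_add, contract_eq_zero ψ hψW hy, contract_ι_mul, hψe, contract_eq_zero ψ hψW hz, one_smul, mul_zero,
          sub_zero, zero_add]
      rw [map_add, contract_ι_mul] at hd
      have hc' : contract (Gsum g h) c = 0 := by
        have h2 := congrArg (contract ψ) hd
        rw [map_zero, map_add, map_sub, map_smul, contract_eq_zero ψ hψW hc, smul_zero, zero_sub,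
          contract_eq_zero ψ hψW (contract_mem (Gsum g h) hx), zero_add, contract_ι_mul, hψe, one_smul] at h2
        cases p with
        | zero =>
          obtain ⟨r, rfl⟩ := mem_deg_zero_iff.1 hc
          exact contract_algebraMap _ _
        | succ p =>
          rw [contract_eq_zero ψ hψW (contract_mem (Gsum g h) hc), mul_zero, sub_zero, neg_eq_zero] at h2
          exact h2
      rw [hc', mul_zero, sub_zero] at hd
      have hπc : pr1 c ∈ J • deg (⊤ : Submodule A (Fin a → A)) p := by
        have h2 := map_smul_le J (contract ψ0) (fun z hz => contract_mem ψ0 hz) hπ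
        rw [contract_map _ _ (add_mem (deg_le le_top _ hx)
          (ι_mul_mem_deg (Submodule.mem_top (x := e)) (deg_le le_top _ hc))), hdec hx hc] at h2
        exact h2
      have hπx : pr1 x ∈ J • deg (⊤ : Submodule A (Fin a → A)) (p + 1) := by
        rw [map_add, map_mul] at hπ
        refine (Submodule.add_mem_iff_left _ ?_).1 hπ
        rw [ExteriorAlgebra.map_apply_ι]
        exact map_smul_le J (LinearMap.mulLeft A (ι A (e.1))) (fun z hz => ι_mul_mem_deg (Submodule.mem_top (x := e.1)) hz) hπc
      obtain ⟨u, hu, hdu, hπu⟩ := ih (by omega) p c hc hc' hπc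
      obtain ⟨v, hv, hdv, hπv⟩ := ih (by omega) (p + 1) (x + Gsum g h e • u)
        (add_mem hx (Submodule.smul_mem _ _ hu)) (by rw [map_add, map_smul, hdu]; exact hd)
        (by rw [map_add, map_smul]; exact add_mem hπx (Submodule.smul_mem _ _ hπu))
      refine ⟨v - ι A e * u, ?_, ?_, ?_⟩
      · rw [hs]
        exact sub_mem (deg_le le_sup_left _ hv)
          (ι_mul_mem_deg (Submodule.mem_sup_right (Submodule.mem_span_singleton_self e)) (deg_le le_sup_left _ hu))
      · rw [map_sub, hdv, contract_ι_mul, hdu]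
        abel
      · rw [map_sub, map_mul, ExteriorAlgebra.map_apply_ι]
        exact sub_mem hπv (map_smul_le J (LinearMap.mulLeft A (ι A (e.1))) (fun z hz => ι_mul_mem_deg (Submodule.mem_top (x := e.1)) hz) hπu)

/-- Cycles which vanish modulo `J` after projection are boundaries. -/
theorem kernel_exact (hR : Resolves h J) {p : ℕ} {ζ : ExteriorAlgebra A ((Fin a → A) × N)}
    (hζ : ζ ∈ deg (⊤ : Submodule A ((Fin a → A) × N)) p) (hd : contract (Gsum g h) ζ = 0)
    (hπ : pr1 ζ ∈ J • deg (⊤ : Submodule A (Fin a → A)) p) :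
    ∃ η ∈ deg (⊤ : Submodule A ((Fin a → A) × N)) (p + 1),
      contract (Gsum g h) η = ζ ∧ pr1 η ∈ J • deg (⊤ : Submodule A (Fin a → A)) (p + 1) := by
  have h1 := kernel_exact_filt (g := g) hR a le_rfl p ζ (by rw [filt_top]; exact hζ) hd hπ
  rwa [filt_top] at h1

end Sum

end Groth.Agent.H16Derived.TorExcess
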