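import Groth.Agent.H16Derived.TorExcess.Iso
import Groth.Agent.H17.CMInter.Inter
import Mathlib

/-!
# Excess Tor sheaves of two regular immersions
-/

set_option autoImplicit false
set_option linter.style.haveILetI false
set_option linter.unusedSectionVars false
set_option maxHeartbeats 1000000
set_option synthInstance.maxHeartbeats 400000
set_option backward.isDefEq.respectTransparency false

universe u

open CategoryTheory CategoryTheory.Limits AlgebraicGeometry Opposite TopologicalSpace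
open Groth.Agent.H16Derived.KFlat Groth.Agent.H16Derived.KFlat.Stalk
open Groth.Agent.H16Derived.ProjFormula (push pull adj)
open Groth.Agent.H17.FLI (O')
open Groth.Agent.H16Derived.TorSelf (Reso deg tensorO'Iso exists_reso)

attribute [local instance] HasDerivedCategory.standard

namespace Groth.Agent.H16Derived.TorExcess

variable {X Y Z W : Scheme.{u}} {iY : Y ⟶ X} {iZ : Z ⟶ X} [IsClosedImmersion iY] [IsClosedImmersion iZ]

/-- The cohomology of `O_Y ⊗ᴸ O_Z` is read on `Z`. -/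
theorem nonempty_hd_ltensor (P : Reso iY) (eP : DCoh.toD X P.Q ≅ DCoh.inD X (O' iY)) [DCoh.HasLTensorMod (O' iZ)] (p : ℕ) :
    Nonempty (DCoh.HD ((DCoh.LTensorMod (O' iZ)).obj (DCoh.inD X (O' iY))) (deg p) ≅ (push iZ).obj (tT P iZ p)) := by
  haveI := ProjFormula.preservesHomology_push iZ
  have hlk := lkflat_of_boundedAbove P.Q 0 P.le P.flat
  let c : ((DCoh.tensorRightMod (O' iZ)).mapHomologicalComplex (ComplexShape.up ℤ)).obj P.Q ≅
      ((push iZ).mapHomologicalComplex (ComplexShape.up ℤ)).obj (tQ P iZ) :=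
    (NatIso.mapHomologicalComplex (tensorO'Iso iZ) (ComplexShape.up ℤ)).app P.Q ≪≫
      HomologicalComplex.Hom.isoOfComponents (fun _ => Iso.refl _)
        (fun a b _ => (Category.id_comp _).trans (Category.comp_id _).symm)
  exact ⟨(DerivedCategory.homologyFunctor X.Modules (deg p)).mapIso ((DCoh.LTensorMod (O' iZ)).mapIso eP.symm) ≪≫
    hdLTensorModIso (O' iZ) P.Q hlk (deg p) ≪≫ (HomologicalComplex.homologyFunctor _ _ (deg p)).mapIso c ≪≫
    ((tQ P iZ).sc (deg p)).mapHomologyIso (push iZ)⟩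

variable {jY : W ⟶ Y} {jZ : W ⟶ Z} [IsClosedImmersion jY] [IsClosedImmersion jZ]

/-- **Excess intersection for Tor**: `Tor_q(O_Y, O_Z) ≅ w_* ⋀^q E`. -/
theorem main (S : Sq iY iZ jY jZ) (hY : LocKosz iY) (hZ : LocKosz iZ) (hW : LocKosz (jY ≫ iY))
    [DCoh.HasLTensorMod (O' iZ)] (q : ℕ) (L : W.Modules) (hL : ExtPow.IsExtPow q S.E L) :
    Nonempty (DCoh.HD ((DCoh.LTensorMod (O' iZ)).obj (DCoh.inD X (O' iY))) (deg q) ≅ (push (jY ≫ iY)).obj L) := by
  obtain ⟨P, ⟨eP⟩⟩ := exists_reso iY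
  obtain ⟨e⟩ := nonempty_hd_ltensor (iZ := iZ) P eP q
  obtain ⟨e'⟩ := nonempty_tT_iso (fun w => nonempty_chart S P w hY hZ hW) hL
  exact ⟨e ≪≫ (push iZ).mapIso e' ≪≫ (Scheme.Modules.pushforwardComp jZ iZ).app L ≪≫
    (Scheme.Modules.pushforwardCongr S.comm.symm).app L⟩

variable (iY iZ)

/-- The square of the scheme-theoretic intersection. -/
noncomputable def Sq.ofPullback
    (φY : (Scheme.Modules.pullback (pullback.fst iY iZ)).obj (Omega.conormal iY) ⟶ Omega.conormal (pullback.fst iY iZ ≫ iY))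
    (hφY : OmegaSh.IsConormalMap (pullback.fst iY iZ ≫ iY) iY (𝟙 X) (pullback.fst iY iZ) φY)
    (φZ : (Scheme.Modules.pullback (pullback.snd iY iZ)).obj (Omega.conormal iZ) ⟶ Omega.conormal (pullback.fst iY iZ ≫ iY))
    (hφZ : OmegaSh.IsConormalMap (pullback.fst iY iZ ≫ iY) iZ (𝟙 X) (pullback.snd iY iZ) φZ) :
    Sq iY iZ (pullback.fst iY iZ) (pullback.snd iY iZ) where
  comm := pullback.condition
  ker := H17.CMInter.ker_fst_comp iY iZ
  surj y z h := by
    obtain ⟨w, -, hw⟩ := Scheme.Pullback.exists_preimage_pullback y z h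
    exact ⟨w, hw⟩
  φY := φY
  hφY := hφY
  φZ := φZ
  hφZ := hφZ

end Groth.Agent.H16Derived.TorExcess
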