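import Groth.Agent.H16Derived.TorExcess.Chart
import Mathlib

/-!
# The class of a tuple of excess elements is locally given by sections
-/

set_option autoImplicit false
set_option linter.style.haveILetI false
set_option linter.unusedSectionVars false
set_option maxHeartbeats 1000000
set_option synthInstance.maxHeartbeats 400000
set_option backward.isDefEq.respectTransparency false

universe u

open CategoryTheory CategoryTheory.Limits AlgebraicGeometry Opposite TopologicalSpace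
open Groth.Agent.H06Mod (stalkLin stalkLin_germ pullStalk pullStalk_germ pullStalk_smul)
open Groth.Agent.H17.FLI (O' idI exists_nhds_germ_zero exists_nhds_germ_eq section_ext germ_map)
open Groth.Agent.H16Derived.TorSelf (Res Reso deg deg_succ pullStalk_eq_zero_iff exists_cls_sect ClsRep)

noncomputable section

namespace Groth.Agent.H16Derived.TorExcess

attribute [local instance] Groth.Agent.H06Mod.stalkAlgebra

variable {X Y Z W : Scheme.{u}} {iY : Y ⟶ X} {iZ : Z ⟶ X} [IsClosedImmersion iY] [IsClosedImmersion iZ]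
  {jY : W ⟶ Y} {jZ : W ⟶ Z} [IsClosedImmersion jY] [IsClosedImmersion jZ] {S : Sq iY iZ jY jZ} {P : Reso iY}

/-- A chain of a family at nearby points. -/
theorem exists_xi_sect {w : W} (C : Chart S P w) {p : ℕ} {V : W.Opens} (ν : Fin p → Γ(S.E, V)) (hw : w ∈ V) :
    ∃ (V' : W.Opens) (_ : w ∈ V') (hV : V' ≤ V) (σ : Γ((Scheme.Modules.pullback jZ).obj (tT P iZ p), V')),
      ∀ (w' : W) (hw' : w' ∈ V'), ∃ t, IsXi S P w' (fun j => S.E.presheaf.germ V w' (hV hw') (ν j)) t ∧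
        ((Scheme.Modules.pullback jZ).obj (tT P iZ p)).presheaf.germ V' w' hw' σ = pullStalk jZ (tT P iZ p) w' t := by
  classical
  choose s hs using fun j => C.vec_surjective (S.E.presheaf.germ V w hw (ν j))
  obtain ⟨F⟩ := Res.exists_fam (f := fun j => C.g (C.T.ρ (s j))) C.L (fun j => C.T.ρ (s j)) fun _ => rfl
  choose Uf hUf fs hfs Vf hVf hVfV hcls using fun j =>
    S.exists_cls_nhds w (ν j) hw (C.g (C.T.ρ (s j))) (hs j ▸ C.vec_spec (s j))
  choose Uz hUz z hz using fun (q : Fin (p + 1)) (e : Fin q.1 → Fin p) =>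
    (P.Q.X (deg q.1)).presheaf.exists_germ_eq (F.Z q.1 e)
  obtain ⟨U, hU, hUf', hUz'⟩ : ∃ U : X.Opens, pt iZ jZ w ∈ U ∧ (∀ j, U ≤ Uf j) ∧ ∀ q e, U ≤ Uz q e := by
    refine ⟨⟨(⋂ j, (Uf j : Set X)) ∩ ⋂ q, ⋂ e, (Uz q e : Set X),
      (isOpen_iInter_of_finite fun j => (Uf j).isOpen).inter
        (isOpen_iInter_of_finite fun q => isOpen_iInter_of_finite fun e => (Uz q e).isOpen)⟩,
      ⟨Set.mem_iInter.2 hUf, Set.mem_iInter.2 fun q => Set.mem_iInter.2 (hUz q)⟩,
      fun j x hx => Set.mem_iInter.1 hx.1 j, fun q e x hx => Set.mem_iInter.1 (Set.mem_iInter.1 hx.2 q) e⟩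
  let ff : Fin p → Γ(X, U) := fun j => X.presheaf.map (homOfLE (hUf' j)).op (fs j)
  have hff : ∀ j, X.presheaf.germ U (pt iZ jZ w) hU (ff j) = C.g (C.T.ρ (s j)) := fun j => by
    simp only [ff, TopCat.Presheaf.germ_res_apply]
    exact hfs j
  let zz : ∀ q : ℕ, (Fin q → Fin p) → Γ(P.Q.X (deg q), U) := fun q e =>
    if h : q < p + 1 then (P.Q.X (deg q)).presheaf.map (homOfLE (hUz' ⟨q, h⟩ e)).op (z ⟨q, h⟩ e) else 0
  have hzz : ∀ q (_ : q < p + 1) (e : Fin q → Fin p),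
      (P.Q.X (deg q)).presheaf.germ U (pt iZ jZ w) hU (zz q e) = F.Z q e := fun q h e => by
    simp only [zz, dif_pos h]
    rw [germ_map]
    exact hz ⟨q, h⟩ e
  -- the elements lie in the second ideal nearby
  have hJ : ∀ j, ∃ U' : X.Opens, pt iZ jZ w ∈ U' ∧ U' ≤ U ∧ ∀ (x : X), x ∈ U' → ∀ hx : x ∈ U,
      X.presheaf.germ U x hx (ff j) ∈ Is iZ.ker x := fun j => by
    obtain ⟨U1, hU1, hU1U, m, hm⟩ := exists_germ_of_mem_Is ((Is_ker iZ (jZ.base w)).ge (C.T.g_ρ (s j))) U hU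
    obtain ⟨U2, hU2, k₁, k₂, hk⟩ := X.presheaf.germ_eq (U := U) (V := U1) (pt iZ jZ w) hU hU1 _ _ ((hff j).trans hm)
    refine ⟨U2, hU2, k₁.le, fun x hx hxU => ?_⟩
    rw [← X.presheaf.germ_res_apply k₁ x hx, hk, X.presheaf.germ_res_apply]
    exact germ_mem_Is iZ.ker U1 x (k₂.le hx) m
  choose UJ hUJ hUJU hJ' using hJ
  -- the equations of a family
  let D : ∀ q (e : Fin (q + 1) → Fin p), Γ(P.Q.X (deg q), U) := fun q e =>
    (P.Q.d (deg (q + 1)) (deg q)).app U (zz (q + 1) e) -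
      ∑ k : Fin (q + 1), ((-1) ^ (k : ℕ) * ff (e k)) • zz q (e ∘ k.succAbove)
  have hD : ∀ q (_ : q < p) (e : Fin (q + 1) → Fin p), StrictMono e →
      (P.Q.X (deg q)).presheaf.germ U (pt iZ jZ w) hU (D q e) = 0 := by
    intro q hq e he
    simp only [D]
    rw [map_sub, sub_eq_zero, ← stalkLin_germ, map_sum, hzz (q + 1) (by omega) e]
    refine (F.comm q e he).trans (Finset.sum_congr rfl fun k _ => ?_)
    rw [Mero.germ_smul, hzz q (by omega), map_mul, map_pow, map_neg, map_one, hff]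
  have hbase : ∀ e : Fin 0 → Fin p, (O' iY).presheaf.germ U (pt iZ jZ w) hU (P.ε.app U (zz 0 e)) =
      (O' iY).presheaf.germ U (pt iZ jZ w) hU (oneSect iY U) := fun e => by
    rw [← stalkLin_germ, hzz 0 (by omega) e, germ_oneSect]
    exact F.base e
  have hall : ∀ q : Fin p, ∃ (U' : X.Opens), pt iZ jZ w ∈ U' ∧ U' ≤ U ∧ ∀ (e : Fin (q.1 + 1) → Fin p), StrictMono e →
      ∀ (x : X) (hx : x ∈ U'), ∀ hx' : x ∈ U, (P.Q.X (deg q.1)).presheaf.germ U x hx' (D q.1 e) = 0 := by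
    intro q
    obtain ⟨W', hy', hle, h⟩ := exists_nhds_germ_zero (P.Q.X (deg q.1)) hU
      (α := ULift.{u} {e : Fin (q.1 + 1) → Fin p // StrictMono e}) (fun e => D q.1 e.down.1)
      fun e => hD q.1 q.2 e.down.1 e.down.2
    exact ⟨W', hy', hle, fun e he x hx hx' => h ⟨⟨e, he⟩⟩ x hx⟩
  choose UD hUD hUDU hD' using hall
  obtain ⟨Uε, hUε, hUεU, hε⟩ := exists_nhds_germ_zero (O' iY) hU (α := ULift.{u} (Fin 0 → Fin p))
    (fun e => P.ε.app U (zz 0 e.down) - oneSect iY U) fun e => by rw [map_sub, sub_eq_zero]; exact hbase e.down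
  let U' : X.Opens := U ⊓ Uε ⊓ (⟨⋂ q, (UD q : Set X), isOpen_iInter_of_finite fun q => (UD q).isOpen⟩ ⊓
    ⟨⋂ j, (UJ j : Set X), isOpen_iInter_of_finite fun j => (UJ j).isOpen⟩)
  have hU'0 : pt iZ jZ w ∈ U' := ⟨⟨hU, hUε⟩, Set.mem_iInter.2 hUD, Set.mem_iInter.2 hUJ⟩
  -- the family at a nearby point
  have hfam : ∀ (x : X) (hx : x ∈ U'), ∀ hxU : x ∈ U, ∃ F' : (resAt P x).Fam (oneAt iY x) (fun j => X.presheaf.germ U x hxU (ff j)),
      F'.top = (P.Q.X (deg p)).presheaf.germ U x hxU (zz p id) := by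
    intro x hx hxU
    refine ⟨⟨fun q e => (P.Q.X (deg q)).presheaf.germ U x hxU (zz q e), fun q e he => ?_, fun e => ?_⟩, rfl⟩
    · have hq : q < p := by
        have := Fintype.card_le_of_injective e he.injective
        simp at this
        omega
      have h := hD' ⟨q, hq⟩ e he x (Set.mem_iInter.1 hx.2.1 _) hxU
      simp only [D] at h
      rw [map_sub, sub_eq_zero, ← stalkLin_germ, map_sum] at h
      refine h.trans (Finset.sum_congr rfl fun k _ => ?_)
      rw [Mero.germ_smul, map_mul, map_pow, map_neg, map_one]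
    · have h := hε ⟨e⟩ x hx.1.2
      rw [map_sub, sub_eq_zero, ← stalkLin_germ, germ_oneSect] at h
      exact h
  -- the cocycle
  let O : Z.Opens := iZ ⁻¹ᵁ U'
  have hOU : O ≤ iZ ⁻¹ᵁ U := fun _ h => h.1.1
  let c : Γ((tQ P iZ).X (deg p), O) :=
    ((tQ P iZ).X (deg p)).presheaf.map (homOfLE hOU).op (OmegaSh.pullSect iZ (P.Q.X (deg p)) U (zz p id))
  have hc : ∀ (a : Z) (ha : a ∈ O), ((tQ P iZ).X (deg p)).presheaf.germ O a ha c =
      tπ P iZ a p ((P.Q.X (deg p)).presheaf.germ U (iZ.base a) (hOU ha) (zz p id)) := fun a ha => by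
    exact (germ_map ((tQ P iZ).X (deg p)) hOU a ha _).trans (pullStalk_germ iZ (P.Q.X (deg p)) a U (hOU ha) _).symm
  have hdc : ((tQ P iZ).d (deg p) (deg p + 1)).app O c = 0 := by
    refine section_ext _ _ _ fun a ha => ?_
    rw [map_zero, ← stalkLin_germ, hc]
    obtain ⟨F', hF'⟩ := hfam (iZ.base a) ha (hOU ha)
    have hmem := Res.Lift.mem_Zb _ (idI iZ a) F'.toLift
      (Res.form_mem (idI iZ a) fun j => (Is_ker iZ a).le (hJ' j _ (Set.mem_iInter.1 ha.2.2 j) _)) p (Res.eW id)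
    rw [show F'.toLift.φ p (Res.eW id) = F'.top from F'.toMap_eW id strictMono_id, hF'] at hmem
    cases p with
    | zero =>
      rw [show deg 0 + 1 = 1 from rfl]
      exact @Subsingleton.elim _ (subsingleton_tQ_one P iZ a) _ _
    | succ q =>
      rw [deg_succ, tπ_d]
      exact (pullStalk_eq_zero_iff _ a _).2 hmem
  obtain ⟨τ, hτ⟩ := exists_cls_sect (C := tQ P iZ) (n := deg p) (j := deg p + 1) rfl O c hdc
  -- back to the intersection
  let V' : W.Opens := V ⊓ jZ ⁻¹ᵁ O ⊓ ⟨⋂ j, (Vf j : Set W), isOpen_iInter_of_finite fun j => (Vf j).isOpen⟩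
  have hV'O : V' ≤ jZ ⁻¹ᵁ O := fun _ h => h.1.2
  refine ⟨V', ⟨⟨hw, hU'0⟩, Set.mem_iInter.2 hVf⟩, fun _ h => h.1.1,
    ((Scheme.Modules.pullback jZ).obj (tT P iZ p)).presheaf.map (homOfLE hV'O).op (OmegaSh.pullSect jZ (tT P iZ p) O τ),
    fun w' hw' => ⟨(tT P iZ p).presheaf.germ O (jZ.base w') (hV'O hw') τ, ?_, ?_⟩⟩
  · have hxU : pt iZ jZ w' ∈ U := hOU (hV'O hw')
    obtain ⟨F', hF'⟩ := hfam (pt iZ jZ w') (hV'O hw') hxU
    refine ⟨fun j => X.presheaf.germ U (pt iZ jZ w') hxU (ff j), fun j => ?_, F', ?_⟩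
    · obtain ⟨hU'', h⟩ := hcls j w' (Set.mem_iInter.1 hw'.2 j)
      simp only [ff, TopCat.Presheaf.germ_res_apply]
      exact h
    · show ClsRep (jZ.base w') (tQ P iZ) (deg p) (tπ P iZ (jZ.base w') p F'.top) _
      rw [hF', ← hc (jZ.base w') (hV'O hw')]
      exact hτ (jZ.base w') (hV'O hw')
  · exact (germ_map ((Scheme.Modules.pullback jZ).obj (tT P iZ p)) hV'O w' hw' _).trans
      (pullStalk_germ jZ (tT P iZ p) w' O (hV'O hw') _).symm

end Groth.Agent.H16Derived.TorExcess
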