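import Groth.Agent.H16Derived.TorExcess.Split
import Mathlib

/-!
# Existence of splittings over a local ring, and the classes of wedges of relations
-/

set_option autoImplicit false
set_option linter.style.haveILetI false
set_option linter.unusedSectionVars false
set_option maxHeartbeats 800000

universe u

open exteriorPower (ιMulti)
open Groth.Agent.H17.KoszSh (deg contract contract_mem ι_mul_mem_deg)
open Groth.Agent.H22Alg.Koszul (dL)
open Groth.Agent.H16Derived.TorSelf (Res)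

noncomputable section

namespace Groth.Agent.H16Derived.TorExcess

variable {A : Type u} [CommRing A]

theorem resolves_of_exact {J : Ideal A} {b : ℕ} (f : Fin b → A)
    (hex : ∀ (p : ℕ) (v : ExteriorAlgebra A (Fin b → A)), v ∈ ⋀[A]^(p + 1) (Fin b → A) →
      contract (Fintype.linearCombination A f) v = 0 →
      ∃ z ∈ ⋀[A]^(p + 2) (Fin b → A), contract (Fintype.linearCombination A f) z = v)
    (hJ : Ideal.span (Set.range f) = J) : Resolves (Fintype.linearCombination A f) J := by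
  subst hJ
  refine ⟨Res.form_mem _ fun k => Ideal.subset_span ⟨k, rfl⟩, fun r hr => ?_, fun p y hy hd => ?_⟩
  · obtain ⟨m, hm⟩ := Ideal.mem_span_range_iff_exists_fun.1 hr
    exact ⟨m, by rw [← hm]; simp [Fintype.linearCombination_apply]⟩
  · rw [H22Alg.Koszul.deg_top] at hy ⊢
    exact hex p y hy hd

/-- The Koszul complex of a resolving form resolves the quotient. -/
theorem Resolves.kExact {I : Ideal A} {N : Type u} [AddCommGroup N] [Module A N] {g : N →ₗ[A] A}
    (hg : Resolves g I) {Q : Type u} [AddCommGroup Q] [Module A Q] {q₀ : Q}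
    (hspan : ∀ q : Q, ∃ a : A, a • q₀ = q) (hann : ∀ a : A, a • q₀ = 0 → a ∈ I) : Res.KExact g q₀ := by
  refine ⟨fun p x hx => ?_, hspan, fun a ha => hg.surj a (hann a ha)⟩
  obtain ⟨z, hz, hzx⟩ := hg.exact p x (coe_mem_deg x) ((H22Alg.Koszul.coe_dL g p x).symm.trans (congrArg Subtype.val hx))
  obtain ⟨z, rfl⟩ := exists_coe hz
  exact ⟨z, Subtype.ext ((H22Alg.Koszul.coe_dL g (p + 1) z).trans hzx)⟩

/-- A relation of a resolving form has coefficients in the ideal. -/
theorem Resolves.mem_smul_of_eq_zero {K : Ideal A} {N : Type u} [AddCommGroup N] [Module A N] {k : N →ₗ[A] A}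
    (hk : Resolves k K) {v : N} (hv : k v = 0) : v ∈ (K • ⊤ : Submodule A N) := by
  obtain ⟨z, hz, hzv⟩ := hk.exact 0 (ExteriorAlgebra.ι A v * algebraMap A _ 1)
    (ι_mul_mem_deg (Submodule.mem_top (x := v)) (H17.KoszSh.mem_deg_zero_iff.2 ⟨1, rfl⟩))
    (by rw [H17.KoszSh.contract_ι_mul, H17.KoszSh.contract_algebraMap, hv]; simp)
  have h := map_smul_le K (ExteriorAlgebra.ιInv : ExteriorAlgebra A N →ₗ[A] N) (D' := (⊤ : Submodule A N))
    (fun _ _ => trivial) (contract_mem_smul K k hk.mem hz)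
  rwa [hzv, map_one, mul_one, ExteriorAlgebra.ι_leftInverse (R := A) (M := N) v] at h

section Local

variable [IsLocalRing A]

/-- Splittings exist over a local ring. -/
theorem exists_split {I J K : Ideal A} {a b c : ℕ} {g : (Fin a → A) →ₗ[A] A} {h : (Fin b → A) →ₗ[A] A}
    {k : (Fin c → A) →ₗ[A] A} (hg : Resolves g I) (hh : Resolves h J) (hk : Resolves k K) (hK : K = I ⊔ J)
    (hne : K ≠ ⊤) : ∃ S : Split J K g, S.b = b := by
  let G : ((Fin a → A) × (Fin b → A)) →ₗ[A] A := Gsum g h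
  have hG : LinearMap.range G = LinearMap.range k := by
    have hr : ∀ {N : Type u} [AddCommGroup N] [Module A N] {φ : N →ₗ[A] A} {I : Ideal A},
        Resolves φ I → LinearMap.range φ = I := fun hφ => le_antisymm
      (by rintro _ ⟨n, rfl⟩; exact hφ.mem n) fun r hr => hφ.surj r hr
    show LinearMap.range (LinearMap.coprod g h) = _
    rw [LinearMap.range_coprod, hr hg, hr hh, hr hk, hK]
  obtain ⟨C, hC⟩ := Module.projective_lifting_property G.rangeRestrict
    (k.codRestrict (LinearMap.range G) fun x => hG.symm ▸ ⟨x, rfl⟩) G.surjective_rangeRestrict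
  obtain ⟨D, hD⟩ := Module.projective_lifting_property k.rangeRestrict
    (G.codRestrict (LinearMap.range k) fun x => hG ▸ ⟨x, rfl⟩) k.surjective_rangeRestrict
  have hC' : ∀ x, G (C x) = k x := fun x => congrArg Subtype.val (LinearMap.congr_fun hC x)
  have hD' : ∀ x, k (D x) = G x := fun x => congrArg Subtype.val (LinearMap.congr_fun hD x)
  have hDs : Function.Surjective D := by
    rw [← LinearMap.range_eq_top, eq_top_iff]
    refine Submodule.le_of_le_smul_of_le_jacobson_bot (Module.Finite.fg_top) (I := K)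
      (by rw [IsLocalRing.jacobson_eq_maximalIdeal ⊥ bot_ne_top]; exact IsLocalRing.le_maximalIdeal hne) fun v _ => ?_
    have hv := hk.mem_smul_of_eq_zero (v := v - D (C v)) (by rw [map_sub, hD', hC', sub_self])
    exact Submodule.mem_sup.2 ⟨_, ⟨C v, rfl⟩, _, hv, add_sub_cancel _ _⟩
  obtain ⟨C', hC''⟩ := Module.projective_lifting_property D LinearMap.id hDs
  have hDC : ∀ x, D (C' x) = x := fun x => LinearMap.congr_fun hC'' x
  let P : ((Fin a → A) × (Fin b → A)) →ₗ[A] LinearMap.ker D :=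
    (LinearMap.id - C'.comp D).codRestrict _ fun x => by simp [hDC]
  have hP : ∀ x : LinearMap.ker D, P x.1 = x := fun x => Subtype.ext (by
    simp [P, show D x.1 = 0 from x.2])
  haveI : Module.Finite A (LinearMap.ker D) := Module.Finite.of_surjective P fun x => ⟨x.1, hP x⟩
  haveI : Module.Projective A (LinearMap.ker D) :=
    Module.Projective.of_split (LinearMap.ker D).subtype P (LinearMap.ext hP)
  haveI : Module.Free A (LinearMap.ker D) := Module.free_of_flat_of_isLocalRing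
  let κ : (Fin (Module.finrank A (LinearMap.ker D)) → A) ≃ₗ[A] LinearMap.ker D :=
    (Module.finBasis A (LinearMap.ker D)).equivFun.symm
  let Ψ : (LinearMap.ker D × (Fin c → A)) ≃ₗ[A] ((Fin a → A) × (Fin b → A)) :=
    LinearEquiv.ofLinearMap (LinearMap.coprod (LinearMap.ker D).subtype C') (LinearMap.prod P D)
      (LinearMap.ext fun x => by simp [P])
      (LinearMap.ext fun x => by
        refine Prod.ext ?_ ?_
        · refine Subtype.ext ?_
          simp [P, show D x.1.1 = 0 from x.1.2, hDC]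
        · simp [show D x.1.1 = 0 from x.1.2, hDC])
  refine ⟨⟨b, _, c, h, k, (κ.prodCongr (LinearEquiv.refl A _)).trans Ψ, fun x => ?_, hh, hk⟩, rfl⟩
  show G (((κ x.1 : LinearMap.ker D) : (Fin a → A) × (Fin b → A)) + C' x.2) = k x.2
  rw [← hD', map_add D, show D (κ x.1).1 = 0 from (κ x.1).2, zero_add, hDC]

end Local

namespace Split

variable {J K : Ideal A} {a : ℕ} {g : (Fin a → A) →ₗ[A] A} (S : Split J K g)
  {Q : Type u} [AddCommGroup Q] [Module A Q] {R : Res A Q} {q₀ : Q} (L : R.Lift g q₀)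

/-- The chain of a wedge of relations. -/
def ψ (p : ℕ) : ↥(⋀[A]^p (Fin S.e → A)) →ₗ[A] R.K p := (L.φ p).comp (exteriorPower.map p S.ρ)

theorem φ_mem_Bb {p : ℕ} {x : ↥(⋀[A]^p (Fin a → A))} (hx : x ∈ BK g J p) : L.φ p x ∈ R.Bb J p := by
  obtain ⟨_, ⟨y, rfl⟩, w, hw, rfl⟩ := Submodule.mem_sup.1 hx
  rw [map_add, ← L.comm]
  exact add_mem (R.d_mem_Bb J p _) (R.smul_mem_Bb J (Res.map_smul_top J _ hw))

theorem ψ_mem_Zb : ∀ (p : ℕ) (z : ↥(⋀[A]^p (Fin S.e → A))), S.ψ L p z ∈ R.Zb J p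
  | 0, _ => trivial
  | p + 1, z => by
    rw [R.mem_Zb_succ, ψ, LinearMap.comp_apply, L.comm]
    exact Res.map_smul_top J _ (S.map_mem_ZK (p + 1) z)

theorem exists_ψ (hKE : Res.KExact g q₀) {p : ℕ} {z : R.K p} (hz : z ∈ R.Zb J p) :
    ∃ w, z - S.ψ L p w ∈ R.Bb J p := by
  obtain ⟨x, hx, hzx⟩ := (Res.bijective L hKE J).1 p z hz
  obtain ⟨w, hw⟩ := S.exists_wedge x hx
  refine ⟨w, ?_⟩
  have h := add_mem hzx (φ_mem_Bb L hw)
  rwa [map_sub, sub_add_sub_cancel] at h

theorem smul_map_mem_BK {p : ℕ} (z : ↥(⋀[A]^p (Fin S.e → A))) (hz : z ∈ (K • ⊤ : Submodule A ↥(⋀[A]^p (Fin S.e → A)))) :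
    exteriorPower.map p S.ρ z ∈ BK g J p := by
  refine Submodule.smul_induction_on hz (fun r hr w _ => ?_) fun x y hx hy => by rw [map_add]; exact add_mem hx hy
  obtain ⟨n, rfl⟩ := S.hk.surj r hr
  let m := S.Φ (0, n)
  let η := ExteriorAlgebra.ι A m * S.lift (w : ExteriorAlgebra A (Fin S.e → A))
  have hη : η ∈ deg (⊤ : Submodule A ((Fin a → A) × (Fin S.b → A))) (p + 1) :=
    ι_mul_mem_deg (Submodule.mem_top (x := m)) (S.lift_mem (coe_mem_deg w))
  refine S.pr1_mem_BK hη _ ?_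
  simp only [η]
  rw [H17.KoszSh.contract_ι_mul, S.contract_lift (coe_mem_deg w), mul_zero, sub_zero, S.hΦ]
  simp only [map_smul, pr1_lift, Submodule.coe_smul, sub_self]
  exact zero_mem _

theorem ψ_mem_Bb_iff (hKE : Res.KExact g q₀) {p : ℕ} (z : ↥(⋀[A]^p (Fin S.e → A))) :
    S.ψ L p z ∈ R.Bb J p ↔ z ∈ (K • ⊤ : Submodule A ↥(⋀[A]^p (Fin S.e → A))) :=
  ⟨fun h => S.mem_smul_of_map_mem_BK z ((Res.bijective L hKE J).2 p _ (S.map_mem_ZK p z) h),
    fun h => φ_mem_Bb L (S.smul_map_mem_BK z h)⟩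

theorem top_sub_ψ_mem {p : ℕ} {f : Fin p → A} (F : R.Fam q₀ f) (hf : ∀ i, f i ∈ J) (v : Fin p → Fin a → A)
    (hv : ∀ i, g (v i) = f i) (w : Fin p → Fin S.b → A) (hw : ∀ i, S.h (w i) = -f i) :
    F.top - S.ψ L p (ιMulti A p fun j => (S.Φ.symm (v j, w j)).1) ∈ R.Bb J p := by
  have h1 := F.top_sub_mem J L hf v hv
  have h2 := φ_mem_Bb L (S.wedge_sub_mem v w fun j => by rw [hv, hw, add_neg_cancel])
  rw [map_sub] at h2
  have h := add_mem h1 h2
  rwa [sub_add_sub_cancel] at h

end Split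

end Groth.Agent.H16Derived.TorExcess
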