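import Groth.Agent.H16Derived.TorExcess.Kernel
import Groth.Agent.H16Derived.TorSelf.Fam
import Mathlib

/-!
# The homology of a Koszul complex modulo a second ideal
-/

set_option autoImplicit false
set_option linter.style.haveILetI false
set_option linter.unusedSectionVars false
set_option maxHeartbeats 800000

universe u

open exteriorPower (ιMulti zeroEquiv)
open Groth.Agent.H17.KoszSh (deg contract contract_mem ι_mul_mem_deg)
open Groth.Agent.H22Alg.Koszul (dL dL_dL coe_dL deg_top)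
open Groth.Agent.H16Derived.TorSelf (Res)

noncomputable section

namespace Groth.Agent.H16Derived.TorExcess

variable {A : Type u} [CommRing A]

section Typed

variable {M : Type u} [AddCommGroup M] [Module A M] {M' : Type u} [AddCommGroup M'] [Module A M']

theorem coe_mem_deg {p : ℕ} (x : ↥(⋀[A]^p M)) : (x : ExteriorAlgebra A M) ∈ deg (⊤ : Submodule A M) p :=
  (deg_top (R := A) (M := M) p).symm ▸ x.2

theorem exists_coe {p : ℕ} {x : ExteriorAlgebra A M} (hx : x ∈ deg (⊤ : Submodule A M) p) :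
    ∃ y : ↥(⋀[A]^p M), (y : ExteriorAlgebra A M) = x :=
  ⟨⟨x, deg_top (R := A) (M := M) p ▸ hx⟩, rfl⟩

theorem coe_mem_smul_iff (J : Ideal A) {p : ℕ} (x : ↥(⋀[A]^p M)) :
    (x : ExteriorAlgebra A M) ∈ J • deg (⊤ : Submodule A M) p ↔ x ∈ (J • ⊤ : Submodule A ↥(⋀[A]^p M)) := by
  have h : J • deg (⊤ : Submodule A M) p = (J • ⊤ : Submodule A ↥(⋀[A]^p M)).map (⋀[A]^p M).subtype := by
    rw [Submodule.map_smul'', Submodule.map_top, Submodule.range_subtype, deg_top]
  rw [h]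
  constructor
  · rintro ⟨y, hy, e⟩
    rwa [← Subtype.ext (a1 := y) (a2 := x) e]
  · exact fun hx => ⟨x, hx, rfl⟩

theorem coe_map (f : M →ₗ[A] M') (p : ℕ) (x : ↥(⋀[A]^p M)) :
    (exteriorPower.map p f x : ExteriorAlgebra A M') = ExteriorAlgebra.map f (x : ExteriorAlgebra A M) := by
  refine LinearMap.congr_fun (f := (⋀[A]^p M').subtype ∘ₗ exteriorPower.map p f)
    (g := (ExteriorAlgebra.map f).toLinearMap ∘ₗ (⋀[A]^p M).subtype)
    (exteriorPower.linearMap_ext (AlternatingMap.ext fun e => ?_)) x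
  simp only [LinearMap.compAlternatingMap_apply, LinearMap.comp_apply, Submodule.subtype_apply,
    exteriorPower.map_apply_ιMulti, exteriorPower.ιMulti_apply_coe, AlgHom.toLinearMap_apply]
  exact (ExteriorAlgebra.map_apply_ιMulti f e).symm

end Typed

/-- Chains which are cycles modulo `J`. -/
def ZK {M : Type u} [AddCommGroup M] [Module A M] (g : M →ₗ[A] A) (J : Ideal A) : ∀ p, Submodule A ↥(⋀[A]^p M)
  | 0 => ⊤
  | p + 1 => (J • ⊤ : Submodule A ↥(⋀[A]^p M)).comap (dL g p)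

/-- Boundaries modulo `J`. -/
def BK {M : Type u} [AddCommGroup M] [Module A M] (g : M →ₗ[A] A) (J : Ideal A) (p : ℕ) : Submodule A ↥(⋀[A]^p M) :=
  LinearMap.range (dL g p) ⊔ J • ⊤

/-- The forms of two ideals, split by a form of their sum. -/
structure Split (J K : Ideal A) {a : ℕ} (g : (Fin a → A) →ₗ[A] A) where
  b : ℕ
  e : ℕ
  c : ℕ
  h : (Fin b → A) →ₗ[A] A
  k : (Fin c → A) →ₗ[A] A
  Φ : ((Fin e → A) × (Fin c → A)) ≃ₗ[A] ((Fin a → A) × (Fin b → A))
  hΦ : ∀ x, Gsum g h (Φ x) = k x.2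
  hh : Resolves h J
  hk : Resolves k K

namespace Split

variable {J K : Ideal A} {a : ℕ} {g : (Fin a → A) →ₗ[A] A} (S : Split J K g)

/-- The first component of the relations. -/
def ρ : (Fin S.e → A) →ₗ[A] (Fin a → A) :=
  (LinearMap.fst A _ _).comp (S.Φ.toLinearMap.comp (LinearMap.inl A _ _))

theorem g_ρ (s : Fin S.e → A) : g (S.ρ s) ∈ J := by
  have h := S.hΦ (s, 0)
  simp only [map_zero, Gsum, LinearMap.coprod_apply] at h
  rw [show g (S.ρ s) = -S.h (S.Φ (s, 0)).2 from eq_neg_of_add_eq_zero_left h]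
  exact neg_mem (S.hh.mem _)

theorem comp_Φ : (Gsum g S.h).comp S.Φ.toLinearMap = Gsum (0 : (Fin S.e → A) →ₗ[A] A) S.k :=
  LinearMap.ext fun x => by simpa using S.hΦ x

theorem comp_Φ_symm : (Gsum (0 : (Fin S.e → A) →ₗ[A] A) S.k).comp S.Φ.symm.toLinearMap = Gsum g S.h := by
  refine LinearMap.ext fun x => ?_
  rw [← S.comp_Φ]
  simp

/-- The wedge, in the big complex. -/
def lift (z : ExteriorAlgebra A (Fin S.e → A)) : ExteriorAlgebra A ((Fin a → A) × (Fin S.b → A)) :=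
  ExteriorAlgebra.map (S.Φ.toLinearMap.comp (LinearMap.inl A _ _)) z

theorem lift_mem {p : ℕ} {z : ExteriorAlgebra A (Fin S.e → A)} (hz : z ∈ deg (⊤ : Submodule A (Fin S.e → A)) p) :
    S.lift z ∈ deg (⊤ : Submodule A ((Fin a → A) × (Fin S.b → A))) p :=
  map_mem_deg_top _ hz

theorem contract_lift {p : ℕ} {z : ExteriorAlgebra A (Fin S.e → A)} (hz : z ∈ deg (⊤ : Submodule A (Fin S.e → A)) p) :
    contract (Gsum g S.h) (S.lift z) = 0 := by
  rw [lift, contract_map _ _ hz, ← LinearMap.comp_assoc, S.comp_Φ, LinearMap.coprod_inl]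
  simp [contract, map_zero]

theorem pr1_lift {p : ℕ} (z : ↥(⋀[A]^p (Fin S.e → A))) :
    pr1 (S.lift z) = (exteriorPower.map p S.ρ z : ExteriorAlgebra A (Fin a → A)) := by
  rw [coe_map, lift, ← AlgHom.comp_apply, ExteriorAlgebra.map_comp_map]
  rfl

/-- The wedge of relations is a cycle modulo `J`. -/
theorem map_mem_ZK : ∀ (p : ℕ) (z : ↥(⋀[A]^p (Fin S.e → A))), exteriorPower.map p S.ρ z ∈ ZK g J p
  | 0, _ => trivial
  | p + 1, z => by
    show dL g p (exteriorPower.map (p + 1) S.ρ z) ∈ (J • ⊤ : Submodule A ↥(⋀[A]^p (Fin a → A)))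
    rw [← Res.map_dL]
    exact Res.map_smul_top J _ (Res.dL_mem_smul J (fun s => S.g_ρ s) p z)

/-- Boundaries in the big complex project to boundaries modulo `J`. -/
theorem pr1_mem_BK {p : ℕ} {η : ExteriorAlgebra A ((Fin a → A) × (Fin S.b → A))}
    (hη : η ∈ deg (⊤ : Submodule A ((Fin a → A) × (Fin S.b → A))) (p + 1)) (x : ↥(⋀[A]^p (Fin a → A)))
    (hx : (x : ExteriorAlgebra A (Fin a → A)) - pr1 (contract (Gsum g S.h) η) ∈ J • deg (⊤ : Submodule A (Fin a → A)) p) :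
    x ∈ BK g J p := by
  obtain ⟨y, hy⟩ := exists_coe (map_mem_deg_top (LinearMap.fst A (Fin a → A) (Fin S.b → A)) hη)
  have h1 := add_mem hx (contract_comm g S.h J S.hh.mem hη)
  rw [sub_add_sub_cancel, ← hy, ← coe_dL, ← Submodule.coe_sub, coe_mem_smul_iff] at h1
  rw [← add_sub_cancel (dL g p y) x]
  exact add_mem (Submodule.mem_sup_left ⟨y, rfl⟩) (Submodule.mem_sup_right h1)

/-- Cycles of the big complex are wedges of relations up to boundaries. -/
theorem exists_lift {p : ℕ} {ζ : ExteriorAlgebra A ((Fin a → A) × (Fin S.b → A))}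
    (hζ : ζ ∈ deg (⊤ : Submodule A ((Fin a → A) × (Fin S.b → A))) p) (hd : contract (Gsum g S.h) ζ = 0) :
    ∃ η ∈ deg (⊤ : Submodule A ((Fin a → A) × (Fin S.b → A))) (p + 1),
      contract (Gsum g S.h) η =
        ζ - S.lift (ExteriorAlgebra.map ((LinearMap.fst A _ _).comp S.Φ.symm.toLinearMap) ζ) := by
  let ζ' := ExteriorAlgebra.map S.Φ.symm.toLinearMap ζ
  let zz := ExteriorAlgebra.map ((LinearMap.fst A _ _).comp S.Φ.symm.toLinearMap) ζ
  have hzz : zz ∈ deg (⊤ : Submodule A (Fin S.e → A)) p := map_mem_deg_top _ hζ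
  let ξ := ζ' - ExteriorAlgebra.map (LinearMap.inl A _ (Fin S.c → A)) zz
  have hξ : ξ ∈ deg (⊤ : Submodule A ((Fin S.e → A) × (Fin S.c → A))) p :=
    sub_mem (map_mem_deg_top _ hζ) (map_mem_deg_top _ hzz)
  have hξd : contract (Gsum (0 : (Fin S.e → A) →ₗ[A] A) S.k) ξ = 0 := by
    simp only [ξ, ζ']
    rw [map_sub, contract_map _ _ hζ, S.comp_Φ_symm, hd, map_zero, contract_map _ _ hzz, LinearMap.coprod_inl]
    simp [contract]
  have hξπ : pr1 ξ ∈ K • deg (⊤ : Submodule A (Fin S.e → A)) p := by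
    simp only [ξ, ζ']
    rw [map_sub, ← AlgHom.comp_apply, ExteriorAlgebra.map_comp_map, ← AlgHom.comp_apply, ExteriorAlgebra.map_comp_map,
      LinearMap.fst_comp_inl, ExteriorAlgebra.map_id, AlgHom.id_apply]
    exact (sub_self zz).symm ▸ zero_mem _
  obtain ⟨η, hη, hdη, -⟩ := kernel_exact S.hk hξ hξd hξπ
  refine ⟨ExteriorAlgebra.map S.Φ.toLinearMap η, map_mem_deg_top _ hη, ?_⟩
  rw [contract_map _ _ hη, S.comp_Φ, hdη]
  simp only [ξ, ζ', lift, zz]
  rw [map_sub, ← AlgHom.comp_apply, ExteriorAlgebra.map_comp_map, LinearEquiv.comp_symm, ExteriorAlgebra.map_id,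
    AlgHom.id_apply, ← AlgHom.comp_apply (ExteriorAlgebra.map S.Φ.toLinearMap), ExteriorAlgebra.map_comp_map]

/-- A cycle modulo `J` is a wedge of relations up to boundaries. -/
theorem exists_wedge {p : ℕ} (x : ↥(⋀[A]^p (Fin a → A))) (hx : x ∈ ZK g J p) :
    ∃ z, x - exteriorPower.map p S.ρ z ∈ BK g J p := by
  let x' := ExteriorAlgebra.map (LinearMap.inl A (Fin a → A) (Fin S.b → A)) (x : ExteriorAlgebra A (Fin a → A))
  have hx' : x' ∈ deg (⊤ : Submodule A ((Fin a → A) × (Fin S.b → A))) p := map_mem_deg_top _ (coe_mem_deg x)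
  obtain ⟨ζ, hζ, hd, hπ⟩ : ∃ ζ ∈ deg (⊤ : Submodule A ((Fin a → A) × (Fin S.b → A))) p,
      contract (Gsum g S.h) ζ = 0 ∧ (x : ExteriorAlgebra A (Fin a → A)) - pr1 ζ ∈ J • deg (⊤ : Submodule A (Fin a → A)) p := by
    have hπx : pr1 x' = (x : ExteriorAlgebra A (Fin a → A)) := by
      rw [← AlgHom.comp_apply, ExteriorAlgebra.map_comp_map, LinearMap.fst_comp_inl, ExteriorAlgebra.map_id,
        AlgHom.id_apply]
    cases p with
    | zero =>
      refine ⟨x', hx', ?_, by rw [hπx, sub_self]; exact zero_mem _⟩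
      obtain ⟨r, hr⟩ := H17.KoszSh.mem_deg_zero_iff.1 hx'
      rw [← hr, H17.KoszSh.contract_algebraMap]
    | succ p =>
      have h1 : pr1 (contract (Gsum g S.h) x') ∈ J • deg (⊤ : Submodule A (Fin a → A)) p := by
        have h2 := contract_comm g S.h J S.hh.mem hx'
        rw [hπx, ← coe_dL] at h2
        exact (Submodule.sub_mem_iff_left _ ((coe_mem_smul_iff J _).2 hx)).1 h2
      obtain ⟨η, hη, hdη, hπη⟩ := kernel_exact S.hh (contract_mem _ hx') (H17.KoszSh.contract_contract _ _) h1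
      refine ⟨x' - η, sub_mem hx' hη, by rw [map_sub, hdη, sub_self], ?_⟩
      rw [map_sub, hπx, sub_sub_cancel]
      exact hπη
  obtain ⟨η, hη, hdη⟩ := S.exists_lift hζ hd
  obtain ⟨z, hz⟩ := exists_coe (map_mem_deg_top ((LinearMap.fst A _ _).comp S.Φ.symm.toLinearMap) hζ)
  refine ⟨z, S.pr1_mem_BK hη _ ?_⟩
  rw [hdη, ← hz, map_sub, pr1_lift, Submodule.coe_sub]
  convert hπ using 1
  abel

/-- A wedge of relations is a boundary only in `K`. -/
theorem mem_smul_of_map_mem_BK {p : ℕ} (z : ↥(⋀[A]^p (Fin S.e → A))) (hz : exteriorPower.map p S.ρ z ∈ BK g J p) :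
    z ∈ (K • ⊤ : Submodule A ↥(⋀[A]^p (Fin S.e → A))) := by
  obtain ⟨_, ⟨y, rfl⟩, w, hw, hyw⟩ := Submodule.mem_sup.1 hz
  let y' := ExteriorAlgebra.map (LinearMap.inl A (Fin a → A) (Fin S.b → A)) (y : ExteriorAlgebra A (Fin a → A))
  have hy' : y' ∈ deg (⊤ : Submodule A ((Fin a → A) × (Fin S.b → A))) (p + 1) := map_mem_deg_top _ (coe_mem_deg y)
  let ζ := S.lift z - contract (Gsum g S.h) y'
  have hζ : ζ ∈ deg (⊤ : Submodule A ((Fin a → A) × (Fin S.b → A))) p :=
    sub_mem (S.lift_mem (coe_mem_deg z)) (contract_mem _ hy')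
  have hd : contract (Gsum g S.h) ζ = 0 := by
    simp only [ζ]
    rw [map_sub, S.contract_lift (coe_mem_deg z), H17.KoszSh.contract_contract, sub_zero]
  have hπ : pr1 ζ ∈ J • deg (⊤ : Submodule A (Fin a → A)) p := by
    have h2 := contract_comm g S.h J S.hh.mem hy'
    have hπy : pr1 y' = (y : ExteriorAlgebra A (Fin a → A)) := by
      rw [← AlgHom.comp_apply, ExteriorAlgebra.map_comp_map, LinearMap.fst_comp_inl, ExteriorAlgebra.map_id,
        AlgHom.id_apply]
    rw [hπy, ← coe_dL] at h2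
    simp only [ζ]
    rw [map_sub, pr1_lift, ← hyw, Submodule.coe_add]
    convert sub_mem ((coe_mem_smul_iff J w).2 hw) h2 using 1
    abel
  obtain ⟨η, hη, hdη, -⟩ := kernel_exact S.hh hζ hd hπ
  let η' := ExteriorAlgebra.map S.Φ.symm.toLinearMap (η + y')
  have hη' : η + y' ∈ deg (⊤ : Submodule A ((Fin a → A) × (Fin S.b → A))) (p + 1) := add_mem hη hy'
  have e1 : contract (Gsum (0 : (Fin S.e → A) →ₗ[A] A) S.k) η' =
      ExteriorAlgebra.map (LinearMap.inl A _ (Fin S.c → A)) (z : ExteriorAlgebra A (Fin S.e → A)) := by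
    simp only [η']
    rw [contract_map _ _ hη', S.comp_Φ_symm, map_add, hdη]
    simp only [ζ, sub_add_cancel, lift]
    rw [← AlgHom.comp_apply, ExteriorAlgebra.map_comp_map, ← LinearMap.comp_assoc, LinearEquiv.symm_comp,
      LinearMap.id_comp]
  have h3 := contract_comm (0 : (Fin S.e → A) →ₗ[A] A) S.k K S.hk.mem
    (map_mem_deg_top S.Φ.symm.toLinearMap hη')
  rw [e1, ← AlgHom.comp_apply, ExteriorAlgebra.map_comp_map, LinearMap.fst_comp_inl, ExteriorAlgebra.map_id,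
    AlgHom.id_apply] at h3
  rw [show contract (0 : (Fin S.e → A) →ₗ[A] A) (pr1 η') = 0 from by simp [contract], sub_zero, coe_mem_smul_iff] at h3
  exact h3

/-- Tuples of relations. -/
theorem wedge_sub_mem {p : ℕ} (v : Fin p → (Fin a → A)) (w : Fin p → (Fin S.b → A))
    (hvw : ∀ j, g (v j) + S.h (w j) = 0) :
    ιMulti A p v - exteriorPower.map p S.ρ (ιMulti A p fun j => (S.Φ.symm (v j, w j)).1) ∈ BK g J p := by
  let u : Fin p → (Fin a → A) × (Fin S.b → A) := fun j => (v j, w j)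
  let ζ : ExteriorAlgebra A ((Fin a → A) × (Fin S.b → A)) := ιMulti A p u
  have hζ : ζ ∈ deg (⊤ : Submodule A ((Fin a → A) × (Fin S.b → A))) p := coe_mem_deg (ιMulti A p u)
  have hd : contract (Gsum g S.h) ζ = 0 := by
    cases p with
    | zero =>
      obtain ⟨r, hr⟩ := H17.KoszSh.mem_deg_zero_iff.1 hζ
      rw [← hr, H17.KoszSh.contract_algebraMap]
    | succ p =>
      simp only [ζ]
      rw [← coe_dL, H22Alg.Koszul.dL_ιMulti, KoszSh.dGen]
      rw [Finset.sum_eq_zero fun i _ => ?_]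
      · rfl
      · rw [show Gsum g S.h (u i) = 0 from hvw i, mul_zero, zero_smul]
  obtain ⟨η, hη, hdη⟩ := S.exists_lift hζ hd
  refine S.pr1_mem_BK hη _ ?_
  have e1 : ExteriorAlgebra.map ((LinearMap.fst A _ _).comp S.Φ.symm.toLinearMap) ζ =
      (ιMulti A p fun j => (S.Φ.symm (v j, w j)).1 : ExteriorAlgebra A (Fin S.e → A)) := by
    simp only [ζ]
    rw [← coe_map, exteriorPower.map_apply_ιMulti]
    rfl
  have e2 : pr1 ζ = (ιMulti A p v : ExteriorAlgebra A (Fin a → A)) := by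
    simp only [ζ]
    rw [← coe_map, exteriorPower.map_apply_ιMulti]
    rfl
  rw [hdη, map_sub, e1, e2, pr1_lift, Submodule.coe_sub, sub_self]
  exact zero_mem _

end Split

/-- A lift of an exact Koszul complex computes the homology modulo any ideal. -/
theorem Res.bijective {Q : Type u} [AddCommGroup Q] [Module A Q] {R : Res A Q} {M : Type u} [AddCommGroup M] [Module A M]
    [∀ p, Module.Projective A ↥(⋀[A]^p M)] {g : M →ₗ[A] A} {q₀ : Q} (L : R.Lift g q₀) (hK : Res.KExact g q₀) (J : Ideal A) :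
    (∀ (p : ℕ) (z : R.K p), z ∈ R.Zb J p → ∃ x ∈ ZK g J p, z - L.φ p x ∈ R.Bb J p) ∧
      ∀ (p : ℕ) (x : ↥(⋀[A]^p M)), x ∈ ZK g J p → L.φ p x ∈ R.Bb J p → x ∈ BK g J p := by
  -- instances on the cone
  letI iA : ∀ n, AddCommGroup (Res.coneX R M n) := fun n => match n with
    | 0 => inferInstanceAs (AddCommGroup (R.K 0))
    | n + 1 => inferInstanceAs (AddCommGroup (R.K (n + 1) × ↥(⋀[A]^n M)))
  letI iM : ∀ n, Module A (Res.coneX R M n) := fun n => match n with
    | 0 => inferInstanceAs (Module A (R.K 0))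
    | n + 1 => inferInstanceAs (Module A (R.K (n + 1) × ↥(⋀[A]^n M)))
  let d : ∀ n, Res.coneX R M (n + 1) →ₗ[A] Res.coneX R M n := fun n => match n with
    | 0 => LinearMap.coprod (R.d 0) (L.φ 0)
    | n + 1 => LinearMap.prod (LinearMap.coprod (R.d (n + 1)) (L.φ (n + 1)))
        (-(dL g n).comp (LinearMap.snd A _ _))
  haveI : ∀ n, Module.Flat A (Res.coneX R M n) := fun n => by
    cases n with
    | zero => exact R.flat 0
    | succ n =>
      haveI := R.flat (n + 1)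
      exact inferInstanceAs (Module.Flat A (R.K (n + 1) × ↥(⋀[A]^n M)))
  have hdd : ∀ n x, d n (d (n + 1) x) = 0 := by
    rintro (_ | n) ⟨a, b⟩
    · show R.d 0 (R.d 1 a + L.φ 1 b) + L.φ 0 (-dL g 0 b) = 0
      rw [map_add, R.dd, L.comm, map_neg, zero_add, add_neg_cancel]
    · show ((R.d (n + 1) (R.d (n + 2) a + L.φ (n + 2) b) + L.φ (n + 1) (-dL g (n + 1) b),
        -dL g n (-dL g (n + 1) b)) : R.K (n + 1) × ↥(⋀[A]^n M)) = (0, 0)
      rw [map_add, R.dd, L.comm, map_neg, zero_add, add_neg_cancel, map_neg, dL_dL, neg_zero, neg_zero]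
  have hexact : ∀ n x, d n x = 0 → ∃ y, d (n + 1) y = x := by
    rintro (_ | n) ⟨a, b⟩ h
    · change R.d 0 a + L.φ 0 b = 0 at h
      have hb : zeroEquiv A M b • q₀ = 0 := by
        have h' := congrArg R.ε h
        rw [map_add, R.ε_d, map_zero, zero_add, Res.eq_smul_ιMulti_zero b (fun i => i.elim0), map_smul, map_smul,
          L.base] at h'
        exact h'
      obtain ⟨m, hm⟩ := hK.ann _ hb
      let y : ↥(⋀[A]^1 M) := -ιMulti A 1 fun _ => m
      have hy : -dL g 0 y = b := by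
        rw [map_neg, neg_neg, Res.dL_ιMulti_one m (fun i => i.elim0), hm, ← Res.eq_smul_ιMulti_zero]
      obtain ⟨c, hc⟩ := R.exact 0 (a - L.φ 1 y) (by
        rw [map_sub, L.comm, sub_eq_add_neg, ← map_neg, hy]
        exact h)
      refine ⟨(c, y), ?_⟩
      show ((R.d 1 c + L.φ 1 y, -dL g 0 y) : R.K 1 × ↥(⋀[A]^0 M)) = (a, b)
      rw [hc, hy, sub_add_cancel]
    · have h1 : R.d (n + 1) a + L.φ (n + 1) b = 0 := congrArg Prod.fst h
      have h2 : -dL g n b = 0 := congrArg Prod.snd h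
      obtain ⟨y, hy⟩ := hK.exact n b (neg_eq_zero.1 h2)
      obtain ⟨c, hc⟩ := R.exact (n + 1) (a + L.φ (n + 2) y) (by rw [map_add, L.comm, hy, h1])
      refine ⟨(c, -y), ?_⟩
      show ((R.d (n + 2) c + L.φ (n + 2) (-y), -dL g (n + 1) (-y)) : R.K (n + 2) × ↥(⋀[A]^(n + 1) M)) = (a, b)
      rw [hc, map_neg, map_neg, hy, neg_neg, add_neg_cancel_right]
  have hsurj : Function.Surjective (d 0) := by
    intro k
    obtain ⟨a, ha⟩ := hK.span (R.ε k)
    let b : ↥(⋀[A]^0 M) := a • ιMulti A 0 fun i => i.elim0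
    obtain ⟨y, hy⟩ := R.exact₀ (k - L.φ 0 b) (by rw [map_sub, map_smul, map_smul, L.base, ha, sub_self])
    exact ⟨(y, b), show R.d 0 y + L.φ 0 b = k by rw [hy, sub_add_cancel]⟩
  have main := fun n x => Res.exact_mod J d (fun n => inferInstance) hdd hexact hsurj n x
  refine ⟨fun p z hz => ?_, fun p x hx hB => ?_⟩
  · cases p with
    | zero =>
      obtain ⟨⟨a, b⟩, hab⟩ := hsurj z
      exact ⟨b, trivial, by
        rw [← hab]; show R.d 0 a + L.φ 0 b - L.φ 0 b ∈ _; rw [add_sub_cancel_right]; exact R.d_mem_Bb J 0 a⟩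
    | succ p =>
      have hmem : d p ((z, 0) : Res.coneX R M (p + 1)) ∈ (J • ⊤ : Submodule A (Res.coneX R M p)) := by
        cases p with
        | zero =>
          show R.d 0 z + L.φ 0 0 ∈ _
          rw [map_zero, add_zero]
          exact hz
        | succ p =>
          show ((R.d (p + 1) z + L.φ (p + 1) 0, -dL g p 0) : R.K (p + 1) × ↥(⋀[A]^p M)) ∈ _
          rw [map_zero, add_zero, map_zero, neg_zero]
          exact Res.map_smul_top J (LinearMap.inl A (R.K (p + 1)) ↥(⋀[A]^p M)) hz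
      obtain ⟨_, ⟨⟨a, b⟩, rfl⟩, w, hw, e⟩ := Submodule.mem_sup.1 (main p _ hmem)
      have hwfst : w.1 ∈ (J • ⊤ : Submodule A (R.K (p + 1))) := Res.map_smul_top J (LinearMap.fst A _ _) hw
      have hwsnd : w.2 ∈ (J • ⊤ : Submodule A ↥(⋀[A]^p M)) := Res.map_smul_top J (LinearMap.snd A _ _) hw
      have e1 : R.d (p + 1) a + L.φ (p + 1) b + w.1 = z := congrArg Prod.fst e
      have e2 : -dL g p b + w.2 = 0 := congrArg Prod.snd e
      refine ⟨b, ?_, ?_⟩
      · show dL g p b ∈ (J • ⊤ : Submodule A ↥(⋀[A]^p M))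
        rwa [← (neg_add_eq_zero.1 e2)] at hwsnd
      · rw [show z - L.φ (p + 1) b = R.d (p + 1) a + w.1 by rw [← e1]; abel]
        exact add_mem (R.d_mem_Bb J _ a) (R.smul_mem_Bb J hwfst)
  · obtain ⟨_, ⟨a, rfl⟩, w, hw, e⟩ := Submodule.mem_sup.1 hB
    have hmem : d p ((-a, x) : Res.coneX R M (p + 1)) ∈ (J • ⊤ : Submodule A (Res.coneX R M p)) := by
      have hφ : R.d p (-a) + L.φ p x = w := by rw [map_neg, ← e]; abel
      cases p with
      | zero =>
        show R.d 0 (-a) + L.φ 0 x ∈ _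
        rw [hφ]
        exact hw
      | succ p =>
        show ((R.d (p + 1) (-a) + L.φ (p + 1) x, -dL g p x) : R.K (p + 1) × ↥(⋀[A]^p M)) ∈ _
        rw [hφ, show ((w, -dL g p x) : R.K (p + 1) × ↥(⋀[A]^p M)) =
          LinearMap.inl A (R.K (p + 1)) ↥(⋀[A]^p M) w + LinearMap.inr A (R.K (p + 1)) ↥(⋀[A]^p M) (-dL g p x) from
            Prod.ext (by simp) (by simp)]
        refine add_mem ?_ ?_
        · exact Res.map_smul_top (N := R.K (p + 1)) J (LinearMap.inl A (R.K (p + 1)) ↥(⋀[A]^p M)) hw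
        · exact Res.map_smul_top (N := ↥(⋀[A]^p M)) (N' := R.K (p + 1) × ↥(⋀[A]^p M)) (x := -dL g p x) J
            (LinearMap.inr A (R.K (p + 1)) ↥(⋀[A]^p M)) (neg_mem hx)
    obtain ⟨_, ⟨⟨a', b'⟩, rfl⟩, w', hw', e'⟩ := Submodule.mem_sup.1 (main p _ hmem)
    have hwsnd : w'.2 ∈ (J • ⊤ : Submodule A ↥(⋀[A]^p M)) := Res.map_smul_top J (LinearMap.snd A _ _) hw'
    have e2 : -dL g p b' + w'.2 = x := congrArg Prod.snd e'
    rw [← e2]
    exact add_mem (neg_mem (Submodule.mem_sup_left ⟨b', rfl⟩)) (Submodule.mem_sup_right hwsnd)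

end Groth.Agent.H16Derived.TorExcess
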