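import Groth.Agent.H16Derived.TorExcess.Psi
import Groth.Agent.H16Derived.TorExcess.Excess
import Groth.Agent.H16Derived.TorSelf.Main
import Mathlib

/-!
# A flat resolution of one closed subscheme pulled back to another one, read in stalks
-/

set_option autoImplicit false
set_option linter.style.haveILetI false
set_option linter.unusedSectionVars false
set_option maxHeartbeats 800000
set_option synthInstance.maxHeartbeats 400000
set_option backward.isDefEq.respectTransparency false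

universe u

open CategoryTheory CategoryTheory.Limits AlgebraicGeometry Opposite TopologicalSpace
open exteriorPower (ιMulti)
open Groth.Agent.H06Mod (stalkLin stalkLin_germ pullStalk pullStalk_germ pullStalk_smul pullStalk_naturality)
open Groth.Agent.H17.FLI (O' oneGerm pst pst_smul pst_oneGerm idI smul_oneGerm_of_mem exists_smul_oneGerm)
open Groth.Agent.H16Derived.TorSelf (Res Reso deg deg_succ stalk_exact stalk_surjective stalkLin_comp_apply ClsRep
  exists_clsRep exists_rep_cls pullStalk_surjective pullStalk_eq_zero_iff pst_one_germ)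

noncomputable section

namespace Groth.Agent.H16Derived.TorExcess

attribute [local instance] Groth.Agent.H06Mod.stalkAlgebra

section One

variable {X Y : Scheme.{u}} (iY : Y ⟶ X) [IsClosedImmersion iY]

/-- The section `1` of `i_* O_Y` over an open set. -/
def oneSect (U : X.Opens) : Γ(O' iY, U) := (O' iY).presheaf.map (homOfLE le_top).op (1 : Γ(Y, iY ⁻¹ᵁ ⊤))

/-- The germ of `1` at any point. -/
def oneAt (x : X) : (O' iY).presheaf.stalk x := (O' iY).presheaf.germ ⊤ x trivial (oneSect iY ⊤)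

theorem germ_oneSect (U : X.Opens) (x : X) (hx : x ∈ U) :
    (O' iY).presheaf.germ U x hx (oneSect iY U) = oneAt iY x := by
  show _ = (O' iY).presheaf.germ ⊤ x trivial ((O' iY).presheaf.map (homOfLE le_top).op (1 : Γ(Y, iY ⁻¹ᵁ ⊤)))
  rw [oneSect, TopCat.Presheaf.germ_res_apply, TopCat.Presheaf.germ_res_apply]

theorem oneAt_base (y : Y) : oneAt iY (iY.base y) = oneGerm iY y := pst_one_germ ⊤ y trivial

theorem exists_smul_oneAt {x : X} (y : Y) (h : iY.base y = x) (q : (O' iY).presheaf.stalk x) :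
    ∃ a : X.presheaf.stalk x, a • oneAt iY x = q := by
  subst h
  rw [oneAt_base]
  exact exists_smul_oneGerm iY y q

theorem mem_Is_of_smul_oneAt {x : X} (y : Y) (h : iY.base y = x) (a : X.presheaf.stalk x)
    (ha : a • oneAt iY x = 0) : a ∈ Is iY.ker x := by
  subst h
  rw [oneAt_base] at ha
  have h := congrArg (pst iY y) ha
  rw [pst_smul, pst_oneGerm, mul_one, map_zero] at h
  rw [Is_ker]
  exact h

theorem smul_oneAt_of_mem {x : X} (y : Y) (h : iY.base y = x) (a : X.presheaf.stalk x) (ha : a ∈ Is iY.ker x) :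
    a • oneAt iY x = 0 := by
  subst h
  rw [Is_ker] at ha
  rw [oneAt_base]
  exact smul_oneGerm_of_mem iY y ha

end One

variable {X Y Z : Scheme.{u}} {iY : Y ⟶ X} [IsClosedImmersion iY] (P : Reso iY) (iZ : Z ⟶ X) [IsClosedImmersion iZ]

/-- The pulled back resolution. -/
abbrev tQ : CochainComplex Z.Modules ℤ :=
  ((Scheme.Modules.pullback iZ).mapHomologicalComplex (ComplexShape.up ℤ)).obj P.Q

/-- The Tor sheaves on the second subscheme. -/
abbrev tT (p : ℕ) : Z.Modules := (tQ P iZ).homology (deg p)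

/-- The resolution at any point. -/
def resAt (x : X) : Res (X.presheaf.stalk x) ((O' iY).presheaf.stalk x) where
  K p := ModuleCat.of _ ((P.Q.X (deg p)).presheaf.stalk x)
  d p := stalkLin (P.Q.d (deg (p + 1)) (deg p)) x
  dd p a := by
    rw [← stalkLin_comp_apply, P.Q.d_comp_d]
    exact stalkLin_zero x a
  exact p a ha := stalk_exact x (P.exact p) a ha
  ε := stalkLin P.ε x
  ε_d a := by
    rw [← stalkLin_comp_apply, P.w]
    exact stalkLin_zero x a
  exact₀ a ha := stalk_exact x P.exact₀ a ha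
  ε_surj := by
    haveI := P.epi
    exact stalk_surjective x P.ε
  flat p := P.flat (deg p) x

variable (z : Z)

/-- The restriction map on stalks. -/
abbrev tπ (p : ℕ) : (resAt P (iZ.base z)).K p →+ ((tQ P iZ).X (deg p)).presheaf.stalk z :=
  (pullStalk iZ (P.Q.X (deg p)) z).hom

theorem tπ_d (p : ℕ) (a : (resAt P (iZ.base z)).K (p + 1)) :
    stalkLin ((tQ P iZ).d (deg (p + 1)) (deg p)) z (tπ P iZ z (p + 1) a) =
      tπ P iZ z p ((resAt P (iZ.base z)).d p a) := by
  show stalkLin ((Scheme.Modules.pullback iZ).map (P.Q.d (deg (p + 1)) (deg p))) z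
      (pullStalk iZ (P.Q.X (deg (p + 1))) z a) =
    pullStalk iZ (P.Q.X (deg p)) z (stalkLin (P.Q.d (deg (p + 1)) (deg p)) (iZ.base z) a)
  exact pullStalk_naturality iZ _ z (P.Q.d (deg (p + 1)) (deg p)) a

theorem subsingleton_tQ_one : Subsingleton (((tQ P iZ).X 1).presheaf.stalk z) := by
  haveI : Subsingleton ((P.Q.X 1).presheaf.stalk (iZ.base z)) :=
    ModuleCat.subsingleton_of_isZero (Functor.map_isZero (DerSch.stalkFunctor X (iZ.base z)) (P.le 1 one_pos))
  exact (pullStalk_surjective (i := iZ) (P.Q.X 1) z).subsingleton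

/-- The class of a cycle modulo the ideal. -/
def TCl (p : ℕ) (a : (resAt P (iZ.base z)).K p) (t : (tT P iZ p).presheaf.stalk z) : Prop :=
  ClsRep z (tQ P iZ) (deg p) (tπ P iZ z p a) t

variable {P iZ z}

theorem TCl.unique {p : ℕ} {a : (resAt P (iZ.base z)).K p} {t t' : (tT P iZ p).presheaf.stalk z}
    (h : TCl P iZ z p a t) (h' : TCl P iZ z p a t') : t = t' := ClsRep.unique (n := deg p) h h'

theorem TCl.add {p : ℕ} {a a' : (resAt P (iZ.base z)).K p} {t t' : (tT P iZ p).presheaf.stalk z}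
    (h : TCl P iZ z p a t) (h' : TCl P iZ z p a' t') : TCl P iZ z p (a + a') (t + t') := by
  unfold TCl
  rw [map_add]
  exact ClsRep.add (n := deg p) h h'

theorem TCl.smul {p : ℕ} {a : (resAt P (iZ.base z)).K p} {t : (tT P iZ p).presheaf.stalk z}
    (h : TCl P iZ z p a t) (r : X.presheaf.stalk (iZ.base z)) : TCl P iZ z p (r • a) ((iZ.stalkMap z).hom r • t) := by
  unfold TCl
  rw [show tπ P iZ z p (r • a) = (iZ.stalkMap z).hom r • tπ P iZ z p a from pullStalk_smul iZ _ z r a]
  exact ClsRep.smul (n := deg p) _ h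

theorem exists_tcl {p : ℕ} {a : (resAt P (iZ.base z)).K p} (ha : a ∈ (resAt P (iZ.base z)).Zb (idI iZ z) p) :
    ∃ t, TCl P iZ z p a t := by
  cases p with
  | zero =>
    haveI := subsingleton_tQ_one P iZ z
    exact exists_clsRep (n := deg 0) (j := 1) (by simp [deg]) _ (Subsingleton.elim _ _)
  | succ p =>
    refine exists_clsRep (n := deg (p + 1)) (j := deg p) (deg_succ p) _ ?_
    rw [tπ_d]
    exact (pullStalk_eq_zero_iff _ z _).2 ha

theorem exists_trep {p : ℕ} (t : (tT P iZ p).presheaf.stalk z) :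
    ∃ a ∈ (resAt P (iZ.base z)).Zb (idI iZ z) p, TCl P iZ z p a t := by
  cases p with
  | zero =>
    obtain ⟨b, -, hb⟩ := exists_rep_cls (C := tQ P iZ) (n := deg 0) (j := 1) (by simp [deg]) t
    obtain ⟨a, rfl⟩ := pullStalk_surjective (i := iZ) (P.Q.X (deg 0)) z b
    exact ⟨a, trivial, hb⟩
  | succ p =>
    obtain ⟨b, hd, hb⟩ := exists_rep_cls (C := tQ P iZ) (n := deg (p + 1)) (j := deg p) (deg_succ p) t
    obtain ⟨a, rfl⟩ := pullStalk_surjective (i := iZ) (P.Q.X (deg (p + 1))) z b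
    exact ⟨a, (pullStalk_eq_zero_iff _ z _).1 ((tπ_d P iZ z p a).symm.trans hd), hb⟩

theorem TCl.eq_zero_iff {p : ℕ} {a : (resAt P (iZ.base z)).K p} {t : (tT P iZ p).presheaf.stalk z}
    (h : TCl P iZ z p a t) : t = 0 ↔ a ∈ (resAt P (iZ.base z)).Bb (idI iZ z) p := by
  refine (ClsRep.eq_zero_iff (i := deg (p + 1)) (n := deg p) (deg_succ p) h).trans ⟨?_, ?_⟩
  · rintro ⟨b, hb⟩
    obtain ⟨w, rfl⟩ := pullStalk_surjective (i := iZ) (P.Q.X (deg (p + 1))) z b
    refine Submodule.mem_sup.2 ⟨_, ⟨w, rfl⟩, a - (resAt P (iZ.base z)).d p w, ?_, add_sub_cancel _ _⟩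
    refine (pullStalk_eq_zero_iff _ z _).1 ?_
    show tπ P iZ z p (a - (resAt P (iZ.base z)).d p w) = 0
    rw [map_sub, ← tπ_d, sub_eq_zero]
    exact hb.symm
  · intro ha
    obtain ⟨_, ⟨w, rfl⟩, j, hj, rfl⟩ := Submodule.mem_sup.1 ha
    refine ⟨tπ P iZ z (p + 1) w, ?_⟩
    rw [tπ_d, map_add, show tπ P iZ z p j = 0 from (pullStalk_eq_zero_iff _ z _).2 hj, add_zero]

theorem TCl.congr {p : ℕ} {a a' : (resAt P (iZ.base z)).K p} {t : (tT P iZ p).presheaf.stalk z}
    (h : TCl P iZ z p a t) (ha : a' - a ∈ (resAt P (iZ.base z)).Bb (idI iZ z) p)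
    (ha' : ∃ t', TCl P iZ z p a' t') : TCl P iZ z p a' t := by
  obtain ⟨t', h'⟩ := ha'
  have h1 : TCl P iZ z p (a' + (-1 : X.presheaf.stalk (iZ.base z)) • a) (t' + (iZ.stalkMap z).hom (-1) • t) :=
    h'.add (h.smul (-1))
  rw [neg_one_smul, ← sub_eq_add_neg, map_neg, map_one, neg_one_smul, ← sub_eq_add_neg] at h1
  rwa [← sub_eq_zero.1 (h1.eq_zero_iff.2 ha)]

theorem TCl.smul_eq_zero_of_mem {p : ℕ} {t : (tT P iZ p).presheaf.stalk z} (r : X.presheaf.stalk (iZ.base z))
    (h : ∀ a ∈ (resAt P (iZ.base z)).Zb (idI iZ z) p, r • a ∈ (resAt P (iZ.base z)).Bb (idI iZ z) p) :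
    (iZ.stalkMap z).hom r • t = 0 := by
  obtain ⟨a, ha, hat⟩ := exists_trep t
  exact (hat.smul r).eq_zero_iff.2 (h a ha)

end Groth.Agent.H16Derived.TorExcess
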